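import Groth.Agent.Lib.ExtZAffine.Main
import Groth.Agent.Lib.ExtLin.Inj
import Groth.Agent.Lib.ClSub.Basis
import Groth.Agent.Lib.SpecSeq.Composite
import Mathlib.Algebra.Category.ModuleCat.Ext.Finite

/-!
# Coherence and vanishing of Ext sheaves with supports
-/

set_option autoImplicit false
set_option linter.style.haveILetI false
universe u

open CategoryTheory Limits AlgebraicGeometry Opposite TopologicalSpace

namespace Groth.Agent.Lib.ExtZAffine

open Groth.Agent.Lib Groth.Agent.Lib.Modules StalkModule Groth.Agent.Lib.QCoh.Localizing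
open Groth.Agent.Lib.InjMod

noncomputable section

section Module

variable {A : Type u} [CommRing A] (I : Ideal A) (M : Type u) [AddCommGroup M] [Module A M]

/-- For a nilpotent ideal every homomorphism is killed. -/
def torsIsoHom (hI : ∀ a ∈ I, IsNilpotent a) :
    torsF I M ≅ (linearCoyoneda A (ModuleCat.{u} A)).obj (op (ModuleCat.of A M)) :=
  NatIso.ofComponents
    (fun N => LinearEquiv.toModuleIso
      ((LinearEquiv.ofTop (torsHom I M N) (eq_top_iff.2 fun φ _ a ha => by
          obtain ⟨k, hk⟩ := hI a ha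
          exact ⟨k, by rw [hk, zero_smul]⟩)).trans
        (ModuleCat.homLinearEquiv (S := A) (M := ModuleCat.of A M) (N := N)).symm))
    fun f => by ext φ; rfl

/-- The derived functors of the homomorphisms killed by a nilpotent ideal are the Ext groups. -/
theorem nonempty_rightDerived_torsF_linearEquiv (hI : ∀ a ∈ I, IsNilpotent a) (N : ModuleCat.{u} A) (q : ℕ) :
    Nonempty (((torsF I M).rightDerived q).obj N ≃ₗ[A] Abelian.Ext.{u} (ModuleCat.of A M) N q) := by
  exact ⟨((injectiveResolution N).isoRightDerivedObj (torsF I M) q ≪≫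
      (HomologicalComplex.homologyFunctor _ _ q).mapIso
        ((NatIso.mapHomologicalComplex (torsIsoHom I M hI) _).app (injectiveResolution N).cocomplex)).toLinearEquiv ≪≫ₗ
    ExtLin.Inj.homologyEquiv A (ModuleCat.of A M) (injectiveResolution N) q⟩

variable [IsNoetherianRing A]

/-- Vanishing of the derived functors. -/
theorem subsingleton_rightDerived_torsF (N : ModuleCat.{u} A) (q : ℕ) (h : ∀ k : ℕ, Subsingleton (Abelian.Ext.{u}
      (ModuleCat.of A (M ⧸ I ^ k • (⊤ : Submodule A M))) N q)) :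
    Subsingleton (((torsF I M).rightDerived q).obj N) := by
  cases q with
  | zero =>
    haveI : Subsingleton ((torsF I M).obj N) := subsingleton_torsHom I M N (injectiveResolution N) h
    exact ((torsF I M).rightDerivedZeroIsoSelf.app N).toLinearEquiv.toEquiv.subsingleton
  | succ i =>
    exact ModuleCat.subsingleton_of_isZero
      (isZero_rightDerived_torsF_succ I M N (injectiveResolution N) i h)

/-- Finiteness of the derived functors. -/
theorem finite_rightDerived_torsF [Module.Finite A M] (N : ModuleCat.{u} A) [Module.Finite A N] (q m : ℕ)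
    (h : ∀ k : ℕ, m ≤ k → Subsingleton (Abelian.Ext.{u}
      (ModuleCat.of A ((I ^ m • (⊤ : Submodule A M)).map (Submodule.mkQ (I ^ k • (⊤ : Submodule A M))))) N q)) :
    Module.Finite A (((torsF I M).rightDerived q).obj N) := by
  cases q with
  | zero =>
    haveI : Module.Finite A (M →ₗ[A] N) := inferInstance
    haveI : Module.Finite A ((torsF I M).obj N) :=
      (show Module.Finite A (torsHom I M N) from Module.Finite.of_fg (IsNoetherian.noetherian _))
    exact Module.Finite.equiv ((torsF I M).rightDerivedZeroIsoSelf.app N).toLinearEquiv.symm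
  | succ i => exact finite_rightDerived_torsF_succ I M N (injectiveResolution N) i m h

end Module

section Scheme

variable {X : Scheme.{u}} (U : X.Opens)

theorem isNilpotent_of_mem_idealOn_bot {V : X.Opens} (hV : IsAffineOpen V) {a : Γ(X, V)}
    (ha : a ∈ idealOn (⊥ : X.Opens) V) : IsNilpotent a := by
  have h : hV.fromSpec ⁻¹ᵁ X.basicOpen a = ⊥ := le_bot_iff.1 fun p hp => (ha hp : hV.fromSpec p ∈ (⊥ : X.Opens))
  rw [hV.fromSpec_preimage_basicOpen] at h
  exact PrimeSpectrum.basicOpen_eq_bot_iff _ |>.1 h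

theorem isIso_inc (H : X.Modules) (h : ∀ z : X, z ∈ U → Subsingleton (H.presheaf.stalk z)) :
    IsIso (inc U H) :=
  ClSub.Basis.isIso_of_bijective_affine (inc U H) fun V => ⟨inc_injective U V.1, fun s =>
    exists_inc_eq U s fun z _ hzU => (h z hzU).elim _ _⟩

variable [IsLocallyNoetherian X] (F : X.Modules) [ModSite.HasSheafHom (O := X.sheaf) F]

/-- Without support condition. -/
def homZFBotIso : homZF (⊥ : X.Opens) F ≅ ExtShStalk.Hom.R F :=
  NatIso.ofComponents
    (fun G => @asIso _ _ _ _ (inc (⊥ : X.Opens) ((ExtShStalk.Hom.R F).obj G)) (isIso_inc _ _ fun _ h => h.elim))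
    fun g => (ModSite.sectOnι X.sheaf (⊥ : X.Opens)).naturality ((ExtShStalk.Hom.R F).map g)

variable {F}

theorem isIso_inc_R (hF : Coh.IsCoh F) (hsupp : ∀ x ∈ CohB1.support F, x ∉ (U : Set X)) (G : X.Modules) :
    IsIso (inc U ((ExtShStalk.Hom.R F).obj G)) :=
  isIso_inc U _ fun z hzU => by
    haveI : Subsingleton (F.presheaf.stalk z) := not_not.1 fun h => hsupp z h hzU
    refine ⟨fun a b => (ExtShStalk.Hom.σ_bijective F hF G z).1 (LinearMap.ext fun m => ?_)⟩
    rw [Subsingleton.elim m 0, map_zero, map_zero]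

variable [HasInjectiveResolutions (ModSite.Mod X.sheaf)]

/-- The Ext sheaves with supports. -/
abbrev extZ (F : X.Modules) [ModSite.HasSheafHom (O := X.sheaf) F] (G : X.Modules) (q : ℕ) : X.Modules :=
  (ModSite.extZSh (O := X.sheaf) U F q).obj G

/-- The Ext sheaves. -/
abbrev ext (F : X.Modules) [ModSite.HasSheafHom (O := X.sheaf) F] (G : X.Modules) (q : ℕ) : X.Modules :=
  (ModSite.extSh (O := X.sheaf) F q).obj G

theorem isQCoh_extZ (hF : Coh.IsCoh F) {G : X.Modules} (hG : Coh.IsQCoh G) (q : ℕ) :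
    Coh.IsQCoh (extZ U F G q) :=
  haveI : HasInjectiveResolutions X.Modules := ‹HasInjectiveResolutions (ModSite.Mod X.sheaf)›
  (main U hF q G hG).1

theorem nonempty_sections_extZ (hF : Coh.IsCoh F) {G : X.Modules} (hG : Coh.IsQCoh G) (q : ℕ)
    {V : X.Opens} (hV : IsAffineOpen V) :
    Nonempty ((secMod V).obj (extZ U F G q) ≅
      ((torsF (idealOn U V) Γ(F, V)).rightDerived q).obj ((secMod V).obj G)) :=
  haveI : HasInjectiveResolutions X.Modules := ‹HasInjectiveResolutions (ModSite.Mod X.sheaf)›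
  (main U hF q G hG).2 V hV

/-- Coherence from finiteness on affine opens. -/
theorem isCoh_extZ_of_finite (hF : Coh.IsCoh F) {G : X.Modules} (hG : Coh.IsQCoh G) (q : ℕ)
    (h : ∀ V : X.Opens, IsAffineOpen V →
      Module.Finite Γ(X, V) (((torsF (idealOn U V) Γ(F, V)).rightDerived q).obj ((secMod V).obj G))) :
    Coh.IsCoh (extZ U F G q) := by
  haveI : (extZ U F G q).IsQuasicoherent := isQCoh_extZ U hF hG q
  refine CohBasics.Closure.isCoh_of_finite_sections fun V hV => ?_
  haveI := h V hV
  obtain ⟨e⟩ := nonempty_sections_extZ U hF hG q hV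
  exact Module.Finite.equiv e.toLinearEquiv.symm

/-- Vanishing from vanishing on affine opens. -/
theorem isZero_extZ_of_subsingleton (hF : Coh.IsCoh F) {G : X.Modules} (hG : Coh.IsQCoh G) (q : ℕ)
    (h : ∀ V : X.Opens, IsAffineOpen V →
      Subsingleton (((torsF (idealOn U V) Γ(F, V)).rightDerived q).obj ((secMod V).obj G))) :
    IsZero (extZ U F G q) := by
  refine Modules.Stalk.isZero_iff_stalk_subsingleton.2 fun x => subsingleton_of_forall_eq 0 fun a => ?_
  obtain ⟨W, hxW, s, rfl⟩ := exists_gm _ a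
  obtain ⟨V, hV, hxV, hVW⟩ := exists_isAffineOpen_mem_and_subset (X := X) hxW
  haveI := h V hV
  obtain ⟨e⟩ := nonempty_sections_extZ U hF hG q hV
  haveI : Subsingleton Γ(extZ U F G q, V) := e.toLinearEquiv.toEquiv.subsingleton
  rw [← gm_res (M := extZ U F G q) (show V ≤ W from hVW) hxV s, Subsingleton.elim (res _ _ s) 0, gm_zero]

/-- Ext sheaves through the trivial support. -/
theorem nonempty_ext_iso (G : X.Modules) (q : ℕ) :
    Nonempty (ext F G q ≅ extZ (⊥ : X.Opens) F G q) :=
  haveI : HasInjectiveResolutions X.Modules := ‹HasInjectiveResolutions (ModSite.Mod X.sheaf)›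
  haveI : (ExtShStalk.Hom.R F).Additive := (ExtShStalk.Hom.adj F).right_adjoint_additive
  ⟨SpecSeq.Composite.rightDerivedCongr (homZFBotIso F).symm q G⟩

/-- Sections of Ext sheaves on affine opens. -/
theorem nonempty_sections_ext (hF : Coh.IsCoh F) {G : X.Modules} (hG : Coh.IsQCoh G) (q : ℕ)
    {V : X.Opens} (hV : IsAffineOpen V) :
    Nonempty (Γ(ext F G q, V) ≃ₗ[Γ(X, V)]
      Abelian.Ext.{u} (ModuleCat.of Γ(X, V) Γ(F, V)) (ModuleCat.of Γ(X, V) Γ(G, V)) q) := by
  obtain ⟨e⟩ := nonempty_ext_iso (F := F) G q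
  obtain ⟨e'⟩ := nonempty_sections_extZ (⊥ : X.Opens) hF hG q hV
  obtain ⟨e''⟩ := nonempty_rightDerived_torsF_linearEquiv (idealOn (⊥ : X.Opens) V) Γ(F, V)
    (fun a ha => isNilpotent_of_mem_idealOn_bot hV ha) ((secMod V).obj G) q
  exact ⟨((secMod V).mapIso e ≪≫ e').toLinearEquiv ≪≫ₗ e''⟩

theorem isQCoh_ext (hF : Coh.IsCoh F) {G : X.Modules} (hG : Coh.IsQCoh G) (q : ℕ) : Coh.IsQCoh (ext F G q) := by
  obtain ⟨e⟩ := nonempty_ext_iso (F := F) G q
  haveI : (extZ (⊥ : X.Opens) F G q).IsQuasicoherent := isQCoh_extZ _ hF hG q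
  exact CohBasics.Closure.isQCoh_of_iso e.symm

theorem isCoh_ext (hF : Coh.IsCoh F) {G : X.Modules} (hG : Coh.IsCoh G) (q : ℕ) : Coh.IsCoh (ext F G q) := by
  haveI : (ext F G q).IsQuasicoherent := isQCoh_ext hF hG.1 q
  refine CohBasics.Closure.isCoh_of_finite_sections fun V hV => ?_
  haveI := InjMod.isNoetherianRing_sections hV
  haveI := CohBasics.Closure.finite_sections hF hV
  haveI := CohBasics.Closure.finite_sections hG hV
  obtain ⟨e⟩ := nonempty_sections_ext hF hG.1 q hV
  exact Module.Finite.equiv e.symm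

/-- Coherence when the module is supported in the closed set. -/
theorem isCoh_extZ_of_support_subset (hF : Coh.IsCoh F) (hsupp : ∀ x ∈ CohB1.support F, x ∉ (U : Set X))
    {G : X.Modules} (hG : Coh.IsCoh G) (q : ℕ) : Coh.IsCoh (extZ U F G q) := by
  haveI : HasInjectiveResolutions X.Modules := ‹HasInjectiveResolutions (ModSite.Mod X.sheaf)›
  haveI : (ExtShStalk.Hom.R F).Additive := (ExtShStalk.Hom.adj F).right_adjoint_additive
  let ν : homZF U F ≅ ExtShStalk.Hom.R F :=
    NatIso.ofComponents (fun H => @asIso _ _ _ _ (inc U ((ExtShStalk.Hom.R F).obj H)) (isIso_inc_R U hF hsupp H))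
      fun g => (ModSite.sectOnι X.sheaf U).naturality ((ExtShStalk.Hom.R F).map g)
  exact CohBasics.Closure.isCoh_of_iso (SpecSeq.Composite.rightDerivedCongr ν.symm q G) (isCoh_ext hF hG q)

end Scheme

end

end Groth.Agent.Lib.ExtZAffine
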