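import Mathlib.CategoryTheory.Abelian.RightDerived
import Mathlib.CategoryTheory.Abelian.Injective.Ext
import Mathlib.Algebra.Homology.ShortComplex.ExactFunctor
import Mathlib.Algebra.Homology.ShortComplex.ModuleCat
import Mathlib.Algebra.Category.ModuleCat.EnoughInjectives
import Mathlib.Algebra.Category.ModuleCat.Ext.HasExt
import Mathlib.Algebra.Category.ModuleCat.Ext.Finite
import Mathlib.Algebra.Homology.DerivedCategory.Ext.Linear
import Mathlib.RingTheory.Finiteness.Ideal
import Mathlib.RingTheory.Noetherian.Basic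

/-!
# The derived functors of the homomorphisms killed by powers of an ideal
-/

set_option autoImplicit false
universe u

open CategoryTheory Limits

namespace Groth.Agent.Lib.ExtZAffine

noncomputable section

variable {A : Type u} [CommRing A] (I : Ideal A) (M : Type u) [AddCommGroup M] [Module A M]

/-- The homomorphisms killed by powers of each element of the ideal. -/
def torsHom (N : Type u) [AddCommGroup N] [Module A N] : Submodule A (M →ₗ[A] N) where
  carrier := {φ | ∀ a ∈ I, ∃ k : ℕ, a ^ k • φ = 0}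
  zero_mem' := fun a _ => ⟨0, smul_zero _⟩
  add_mem' := by
    intro φ ψ hφ hψ a ha
    obtain ⟨k, hk⟩ := hφ a ha
    obtain ⟨l, hl⟩ := hψ a ha
    refine ⟨k + l, ?_⟩
    rw [smul_add]
    nth_rw 1 [pow_add, mul_comm, mul_smul, hk, smul_zero]
    rw [pow_add, mul_smul, hl, smul_zero, add_zero]
  smul_mem' := by
    intro c φ hφ a ha
    obtain ⟨k, hk⟩ := hφ a ha
    exact ⟨k, by rw [smul_comm, hk, smul_zero]⟩

variable {I M}

theorem mem_torsHom {N : Type u} [AddCommGroup N] [Module A N] {φ : M →ₗ[A] N} :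
    φ ∈ torsHom I M N ↔ ∀ a ∈ I, ∃ k : ℕ, a ^ k • φ = 0 := Iff.rfl

theorem comp_mem_torsHom {N N' : Type u} [AddCommGroup N] [Module A N] [AddCommGroup N'] [Module A N']
    (f : N →ₗ[A] N') {φ : M →ₗ[A] N} (hφ : φ ∈ torsHom I M N) : f.comp φ ∈ torsHom I M N' :=
  fun a ha => (hφ a ha).imp fun k hk => by rw [← LinearMap.comp_smul, hk, LinearMap.comp_zero]

theorem exists_pow_le_ker [IsNoetherianRing A] {N : Type u} [AddCommGroup N] [Module A N] {φ : M →ₗ[A] N}
    (hφ : φ ∈ torsHom I M N) : ∃ k : ℕ, I ^ k • (⊤ : Submodule A M) ≤ LinearMap.ker φ := by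
  have hle : I ≤ Ideal.radical (LinearMap.ker (LinearMap.toSpanSingleton A (M →ₗ[A] N) φ) : Ideal A) := fun a ha =>
    (hφ a ha).imp fun k hk => hk
  obtain ⟨k, hk⟩ := Ideal.exists_pow_le_of_le_radical_of_fg hle (IsNoetherian.noetherian I)
  refine ⟨k, Submodule.smul_le.2 fun a ha m _ => ?_⟩
  rw [LinearMap.mem_ker, map_smul]
  exact LinearMap.congr_fun (show a • φ = 0 from hk ha) m

theorem comp_mkQ_mem_torsHom (k : ℕ) {N : Type u} [AddCommGroup N] [Module A N]
    (φ : (M ⧸ I ^ k • (⊤ : Submodule A M)) →ₗ[A] N) :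
    φ.comp (Submodule.mkQ _) ∈ torsHom I M N := fun a ha => ⟨k, LinearMap.ext fun m => by
  rw [LinearMap.smul_apply, LinearMap.comp_apply, ← map_smul, ← map_smul, LinearMap.zero_apply,
    Submodule.mkQ_apply, (Submodule.Quotient.mk_eq_zero _).2
      (Submodule.smul_mem_smul (Ideal.pow_mem_pow ha k) Submodule.mem_top), map_zero]⟩

variable (I M)

/-- The homomorphisms killed by powers of the ideal, as a functor. -/
def torsF : ModuleCat.{u} A ⥤ ModuleCat.{u} A where
  obj N := ModuleCat.of A (torsHom I M N)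
  map {N N'} f := ModuleCat.ofHom ((LinearMap.llcomp A M N N' f.hom).restrict
    fun φ hφ => comp_mem_torsHom f.hom hφ)
  map_id N := by ext φ; rfl
  map_comp f g := by ext φ; rfl

instance additive_torsF : (torsF I M).Additive where
  map_add {N N' f g} := ModuleCat.hom_ext (LinearMap.ext fun _ => rfl)

instance preservesFiniteLimits_torsF : PreservesFiniteLimits (torsF I M) := by
  refine ((torsF I M).preservesFiniteLimits_iff_forall_exact_map_and_mono).2 fun S hS => ⟨?_, ?_⟩
  · rw [ShortComplex.moduleCat_exact_iff]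
    intro φ hφ
    have hinj : Function.Injective S.f.hom := (ModuleCat.mono_iff_injective _).1 hS.mono_f
    have hex := (S.moduleCat_exact_iff).1 hS.exact
    have h0 : ∀ m, φ.1 m ∈ LinearMap.range S.f.hom := fun m =>
      hex (φ.1 m) (LinearMap.congr_fun (congrArg Subtype.val hφ) m)
    let ψ : M →ₗ[A] S.X₁ := (LinearEquiv.ofInjective S.f.hom hinj).symm.toLinearMap.comp (φ.1.codRestrict _ h0)
    have hψ : S.f.hom.comp ψ = φ.1 := LinearMap.ext fun m =>
      congrArg Subtype.val ((LinearEquiv.ofInjective S.f.hom hinj).apply_symm_apply _)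
    refine ⟨⟨ψ, fun a ha => (φ.2 a ha).imp fun k hk => LinearMap.ext fun m => hinj ?_⟩, Subtype.ext hψ⟩
    rw [LinearMap.smul_apply, map_smul, LinearMap.zero_apply, map_zero]
    exact LinearMap.congr_fun ((congrArg (a ^ k • ·) hψ).trans hk) m
  · refine (ModuleCat.mono_iff_injective _).2 fun φ φ' h => Subtype.ext (LinearMap.ext fun m => ?_)
    exact (ModuleCat.mono_iff_injective _).1 hS.mono_f (LinearMap.congr_fun (congrArg Subtype.val h) m)

section Derived

variable [IsNoetherianRing A] (N : ModuleCat.{u} A) (P : InjectiveResolution N)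

include P

/-- Degree zero. -/
theorem subsingleton_torsHom (h : ∀ k : ℕ, Subsingleton (Abelian.Ext.{u}
      (ModuleCat.of A (M ⧸ I ^ k • (⊤ : Submodule A M))) N 0)) :
    Subsingleton (torsHom I M N) := by
  refine subsingleton_of_forall_eq 0 fun φ => Subtype.ext ?_
  obtain ⟨k, hk⟩ := exists_pow_le_ker φ.2
  haveI := h k
  have h0 : ModuleCat.ofHom (Submodule.liftQ _ φ.1 hk) = (0 : ModuleCat.of A (M ⧸ I ^ k • (⊤ : Submodule A M)) ⟶ N) :=
    Abelian.Ext.addEquiv₀.symm.injective (Subsingleton.elim _ _)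
  rw [← Submodule.liftQ_mkQ (I ^ k • (⊤ : Submodule A M)) φ.1 hk]
  rw [show Submodule.liftQ _ φ.1 hk = 0 from ModuleCat.hom_ext_iff.1 h0]
  exact LinearMap.zero_comp _

/-- A cycle killed by a power of the ideal, as a cycle on the quotient. -/
theorem exists_liftQ {i : ℕ} {φ : M →ₗ[A] P.cocomplex.X i} {k : ℕ}
    (hk : I ^ k • (⊤ : Submodule A M) ≤ LinearMap.ker φ)
    (hφ : (P.cocomplex.d i (i + 1)).hom.comp φ = 0) :
    ModuleCat.ofHom (Submodule.liftQ _ φ hk) ≫ P.cocomplex.d i (i + 1) = 0 :=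
  ModuleCat.hom_ext (Submodule.linearMap_qext _ (by
    rw [ModuleCat.hom_comp, ModuleCat.hom_ofHom, LinearMap.comp_assoc, Submodule.liftQ_mkQ, hφ]
    rfl))

/-- The derived functors vanish when the Ext groups of the quotients do. -/
theorem isZero_rightDerived_torsF_succ (i : ℕ) (h : ∀ k : ℕ, Subsingleton (Abelian.Ext.{u}
      (ModuleCat.of A (M ⧸ I ^ k • (⊤ : Submodule A M))) N (i + 1))) :
    IsZero (((torsF I M).rightDerived (i + 1)).obj N) := by
  refine IsZero.of_iso ?_ (P.isoRightDerivedObj (torsF I M) (i + 1))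
  refine (HomologicalComplex.exactAt_iff_isZero_homology _ _).1 ?_
  rw [HomologicalComplex.exactAt_iff' _ i (i + 1) (i + 1 + 1) (by simp) (by simp), ShortComplex.moduleCat_exact_iff]
  intro φ hφ
  obtain ⟨k, hk⟩ := exists_pow_le_ker (φ : torsHom I M (P.cocomplex.X (i + 1))).2
  have hcyc := exists_liftQ I M N P hk (congrArg Subtype.val hφ)
  haveI := h k
  obtain ⟨g, hg⟩ := (P.extMk_eq_zero_iff _ (i + 1 + 1) rfl hcyc i rfl).1 (Subsingleton.elim _ _)
  refine ⟨⟨g.hom.comp (Submodule.mkQ _), comp_mkQ_mem_torsHom k g.hom⟩, Subtype.ext ?_⟩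
  show (P.cocomplex.d i (i + 1)).hom.comp (g.hom.comp (Submodule.mkQ _)) = _
  rw [← LinearMap.comp_assoc, ← ModuleCat.hom_comp, hg, ModuleCat.hom_ofHom, Submodule.liftQ_mkQ]

omit [IsNoetherianRing A] in
theorem extMk_smul {Q : ModuleCat.{u} A} {i : ℕ} (c : A) (g : Q ⟶ P.cocomplex.X i)
    (hg : g ≫ P.cocomplex.d i (i + 1) = 0) :
    P.extMk (c • g) (i + 1) rfl (by rw [Linear.smul_comp, hg, smul_zero]) =
      c • P.extMk g (i + 1) rfl hg := by
  conv_rhs => rw [← Abelian.Ext.mk₀_id_comp (P.extMk g (i + 1) rfl hg), ← Abelian.Ext.smul_comp,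
    ← Abelian.Ext.mk₀_smul, P.mk₀_comp_extMk]
  congr 1
  rw [Linear.smul_comp, Category.id_comp]

/-- The derived functors are finite when the Ext groups between the powers vanish eventually. -/
theorem finite_rightDerived_torsF_succ [Module.Finite A M] [Module.Finite A N] (i m : ℕ)
    (h : ∀ k : ℕ, m ≤ k → Subsingleton (Abelian.Ext.{u}
      (ModuleCat.of A ((I ^ m • (⊤ : Submodule A M)).map (Submodule.mkQ (I ^ k • (⊤ : Submodule A M))))) N (i + 1))) :
    Module.Finite A (((torsF I M).rightDerived (i + 1)).obj N) := by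
  let K := ((torsF I M).mapHomologicalComplex _).obj P.cocomplex
  let S := K.sc' i (i + 1) (i + 1 + 1)
  let e : (((torsF I M).rightDerived (i + 1)).obj N) ≅ S.moduleCatLeftHomologyData.H :=
    P.isoRightDerivedObj (torsF I M) (i + 1) ≪≫
      ShortComplex.homologyMapIso (K.isoSc' i (i + 1) (i + 1 + 1) (by simp) (by simp)) ≪≫
      S.moduleCatHomologyIso
  refine (Module.Finite.equiv_iff e.toLinearEquiv).2 ?_
  let Qm := ModuleCat.of A (M ⧸ I ^ m • (⊤ : Submodule A M))
  let Zm : Submodule A (Qm ⟶ P.cocomplex.X (i + 1)) :=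
    LinearMap.ker (Linear.rightComp A Qm (P.cocomplex.d (i + 1) (i + 1 + 1)))
  let Φ : Zm →ₗ[A] Abelian.Ext.{u} Qm N (i + 1) :=
    { toFun := fun g => P.extMk g.1 (i + 1 + 1) rfl g.2
      map_add' := fun g g' => (P.add_extMk g.1 g'.1 _ rfl g.2 g'.2).symm
      map_smul' := fun c g => extMk_smul N P c g.1 g.2 }
  let j : Zm →ₗ[A] LinearMap.ker S.g.hom :=
    { toFun := fun g => ⟨⟨g.1.hom.comp (Submodule.mkQ _), comp_mkQ_mem_torsHom m g.1.hom⟩, Subtype.ext (by
        show (P.cocomplex.d (i + 1) (i + 1 + 1)).hom.comp (g.1.hom.comp (Submodule.mkQ _)) = 0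
        rw [← LinearMap.comp_assoc, ← ModuleCat.hom_comp, show g.1 ≫ _ = 0 from g.2]
        rfl)⟩
      map_add' := fun g g' => rfl
      map_smul' := fun c g => rfl }
  let q : Zm →ₗ[A] (LinearMap.ker S.g.hom) ⧸ LinearMap.range S.moduleCatToCycles :=
    (Submodule.mkQ _).comp j
  have hker : LinearMap.ker Φ ≤ LinearMap.ker q := fun g hg => by
    obtain ⟨g', hg'⟩ := (P.extMk_eq_zero_iff g.1 (i + 1 + 1) rfl g.2 i rfl).1 hg
    refine (Submodule.Quotient.mk_eq_zero _).2 ⟨⟨g'.hom.comp (Submodule.mkQ _), comp_mkQ_mem_torsHom m g'.hom⟩,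
      Subtype.ext (Subtype.ext ?_)⟩
    show (P.cocomplex.d i (i + 1)).hom.comp (g'.hom.comp (Submodule.mkQ _)) = g.1.hom.comp (Submodule.mkQ _)
    rw [← LinearMap.comp_assoc, ← ModuleCat.hom_comp, hg']
  have hsurj : Function.Surjective q := by
    intro z
    obtain ⟨⟨φ, hφ⟩, rfl⟩ := Submodule.Quotient.mk_surjective _ z
    obtain ⟨k₀, hk₀⟩ := exists_pow_le_ker (φ : torsHom I M (P.cocomplex.X (i + 1))).2
    let k := max m k₀
    have hk : I ^ k • (⊤ : Submodule A M) ≤ LinearMap.ker (φ : torsHom I M (P.cocomplex.X (i + 1))).1 :=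
      (Submodule.smul_mono_left (Ideal.pow_le_pow_right (le_max_right m k₀))).trans hk₀
    let Fk : (M ⧸ I ^ k • (⊤ : Submodule A M)) →ₗ[A] P.cocomplex.X (i + 1) := Submodule.liftQ _ _ hk
    have hcyc := exists_liftQ I M N P hk (congrArg Subtype.val (hφ : S.g.hom φ = 0))
    let L := (I ^ m • (⊤ : Submodule A M)).map (Submodule.mkQ (I ^ k • (⊤ : Submodule A M)))
    let ιL : ModuleCat.of A L ⟶ ModuleCat.of A (M ⧸ I ^ k • (⊤ : Submodule A M)) := ModuleCat.ofHom L.subtype
    haveI := h k (le_max_left _ _)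
    obtain ⟨g, hg⟩ := (P.extMk_eq_zero_iff (ιL ≫ ModuleCat.ofHom Fk) (i + 1 + 1) rfl
      (by rw [Category.assoc, hcyc, comp_zero]) i rfl).1 (Subsingleton.elim _ _)
    haveI : Mono ιL := (ModuleCat.mono_iff_injective _).2 L.injective_subtype
    let ψ := Injective.factorThru g ιL
    let F' : M →ₗ[A] P.cocomplex.X (i + 1) :=
      (Fk - (P.cocomplex.d i (i + 1)).hom.comp ψ.hom).comp (Submodule.mkQ _)
    have hF' : I ^ m • (⊤ : Submodule A M) ≤ LinearMap.ker F' := fun x hx => by
      have hgx : g.hom ⟨_, Submodule.mem_map_of_mem hx⟩ = ψ.hom (Submodule.mkQ _ x) :=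
        (LinearMap.congr_fun (ModuleCat.hom_ext_iff.1 (Injective.comp_factorThru g ιL)) _).symm
      have := LinearMap.congr_fun (ModuleCat.hom_ext_iff.1 hg)
        (⟨Submodule.mkQ _ x, Submodule.mem_map_of_mem hx⟩ : L)
      rw [LinearMap.mem_ker]
      show Fk (Submodule.mkQ _ x) - (P.cocomplex.d i (i + 1)).hom (ψ.hom (Submodule.mkQ _ x)) = 0
      rw [← hgx, sub_eq_zero]
      exact this.symm
    refine ⟨⟨ModuleCat.ofHom (Submodule.liftQ _ F' hF'), exists_liftQ I M N P hF' (LinearMap.ext fun x => ?_)⟩, ?_⟩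
    · show (P.cocomplex.d (i + 1) (i + 1 + 1)).hom
        (Fk (Submodule.mkQ _ x) - (P.cocomplex.d i (i + 1)).hom (ψ.hom (Submodule.mkQ _ x))) = 0
      rw [map_sub, show (P.cocomplex.d (i + 1) (i + 1 + 1)).hom (Fk (Submodule.mkQ _ x)) = 0 from
          LinearMap.congr_fun (ModuleCat.hom_ext_iff.1 hcyc) _,
        ← LinearMap.comp_apply, ← ModuleCat.hom_comp, HomologicalComplex.d_comp_d, ModuleCat.hom_zero,
        LinearMap.zero_apply, sub_zero]
    · refine (Submodule.Quotient.eq _).2 ⟨⟨(-ψ.hom).comp (Submodule.mkQ _), comp_mkQ_mem_torsHom k _⟩,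
        Subtype.ext (Subtype.ext (LinearMap.ext fun x => ?_))⟩
      show (P.cocomplex.d i (i + 1)).hom (-ψ.hom (Submodule.mkQ _ x)) =
        (Fk (Submodule.mkQ _ x) - (P.cocomplex.d i (i + 1)).hom (ψ.hom (Submodule.mkQ _ x))) - Fk (Submodule.mkQ _ x)
      rw [map_neg]; abel
  exact Module.Finite.of_surjective
    (((LinearMap.ker Φ).liftQ q hker).comp Φ.quotKerEquivRange.symm.toLinearMap)
    (((Submodule.range_liftQ _ q hker).trans (LinearMap.range_eq_top.2 hsurj) |> LinearMap.range_eq_top.1).comp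
      Φ.quotKerEquivRange.symm.surjective)

end Derived

end

end Groth.Agent.Lib.ExtZAffine
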