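import Groth.Agent.Lib.ExtZAffine.Sect
import Groth.Agent.Lib.ExtZAffine.Tors
import Groth.Agent.Lib.ExtShStalk.Hom
import Groth.Agent.Lib.RefHull.HomSh
import Groth.Agent.Lib.CohBasics.Closure

/-!
# Supported homomorphisms of quasi-coherent modules on an affine open
-/

set_option autoImplicit false
universe u

open CategoryTheory Limits AlgebraicGeometry Opposite TopologicalSpace

namespace Groth.Agent.Lib.ExtZAffine

open Groth.Agent.Lib Groth.Agent.Lib.Modules StalkModule Groth.Agent.Lib.QCoh.Localizing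
open Groth.Agent.Lib.InjMod

noncomputable section

variable {X : Scheme.{u}} (U V : X.Opens)

/-- Sections as a functor to modules over the functions. -/
def secMod (V : X.Opens) : X.Modules ⥤ ModuleCat.{u} Γ(X, V) where
  obj M := ModuleCat.of Γ(X, V) Γ(M, V)
  map {M N} φ := ModuleCat.ofHom
    { toFun := fun (s : Γ(M, V)) => φ.app V s
      map_add' := fun a b => map_add (φ.app V).hom a b
      map_smul' := fun r a => φ.app_smul r a }
  map_id M := by ext s; rfl
  map_comp f g := by ext s; rfl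

instance additive_secMod (V : X.Opens) : (secMod V).Additive where
  map_add {M N f g} := ModuleCat.hom_ext (LinearMap.ext fun _ => rfl)

/-- The functions whose basic open lies in the open. -/
def idealOn : Ideal Γ(X, V) where
  carrier := {a | X.basicOpen a ≤ U}
  zero_mem' := by
    show X.basicOpen (0 : Γ(X, V)) ≤ U
    rw [Scheme.basicOpen_zero]
    exact bot_le
  add_mem' := fun {a b} ha hb => (Scheme.basicOpen_add_le X a b).trans (sup_le ha hb)
  smul_mem' := fun c a ha => by
    show X.basicOpen (c * a) ≤ U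
    rw [Scheme.basicOpen_mul]
    exact inf_le_right.trans ha

variable [IsLocallyNoetherian X] (F : X.Modules) [ModSite.HasSheafHom (O := X.sheaf) F]

/-- Supported homomorphisms, as a functor. -/
abbrev homZF : X.Modules ⥤ X.Modules := ExtShStalk.Hom.R F ⋙ sectM U

variable {U V F}

omit [IsLocallyNoetherian X] in
/-- The section of the sheaf of homomorphisms. -/
abbrev homOf {G : X.Modules} (t : Γ((homZF U F).obj G, V)) : Γ(RefHull.homSh F G, V) :=
  (ExtShStalk.Hom.θ F G).app V ((inc U ((ExtShStalk.Hom.R F).obj G)).app V t)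

theorem evalStalk_θ {G : X.Modules} {W : X.Opens} {z : X} (hz : z ∈ W)
    (s : Γ((ExtShStalk.Hom.R F).obj G, W)) :
    ExtShStalk.Hom.σ F G z (gm ((ExtShStalk.Hom.R F).obj G) hz s) =
      ((ExtShStalk.Hom.θ F G).app W s).1 ⟨z, hz⟩ := by
  rw [ExtShStalk.Hom.σ_eq, stalkMapₗ_gm]
  exact RefHull.evalStalk_germ _ _ _ _ _

theorem homOf_eq_zero {G : X.Modules} (t : Γ((homZF U F).obj G, V)) {z : X} (hz : z ∈ V) (hzU : z ∈ U) :
    (homOf t).1 ⟨z, hz⟩ = 0 := by
  rw [← evalStalk_θ, gm_inc U t hz hzU, map_zero]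

theorem homOf_natural {G G' : X.Modules} (h : G ⟶ G') (t : Γ((homZF U F).obj G, V)) {z : X} (hz : z ∈ V) :
    (homOf (((homZF U F).map h).app V t)).1 ⟨z, hz⟩ = (stalkMapₗ h z).comp ((homOf t).1 ⟨z, hz⟩) := by
  have e : (inc U ((ExtShStalk.Hom.R F).obj G')).app V (((homZF U F).map h).app V t) =
      ((ExtShStalk.Hom.R F).map h).app V ((inc U ((ExtShStalk.Hom.R F).obj G)).app V t) :=
    congrArg (fun φ : (sectM U).obj ((ExtShStalk.Hom.R F).obj G) ⟶ (ExtShStalk.Hom.R F).obj G' => φ.app V t)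
      ((ModSite.sectOnι X.sheaf U).naturality ((ExtShStalk.Hom.R F).map h))
  rw [homOf, ← evalStalk_θ, e, ← stalkMapₗ_gm, ExtShStalk.Hom.σ_natural, evalStalk_θ]

theorem gm_app {G : X.Modules} (g : Γ(RefHull.homSh F G, V)) (m : Γ(F, V)) {z : X} (hz : z ∈ V) :
    gm G hz (RefHull.SecHom.app g le_rfl m) = g.1 ⟨z, hz⟩ (gm F hz m) :=
  RefHull.SecHom.germ_app g le_rfl m z hz

variable (U F) in
/-- Sections of supported homomorphisms as linear maps. -/
def toLin (G : X.Modules) : Γ((homZF U F).obj G, V) →ₗ[Γ(X, V)] (Γ(F, V) →ₗ[Γ(X, V)] Γ(G, V)) where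
  toFun t := RefHull.SecHom.app (homOf t) le_rfl
  map_add' s t := LinearMap.ext fun m => section_eq_of_gm (M := G) _ _ fun z hz => by
    rw [LinearMap.add_apply, gm_add]
    rw [gm_app, gm_app, gm_app]
    rw [← evalStalk_θ, ← evalStalk_θ, ← evalStalk_θ, map_add, gm_add, map_add]
    rfl
  map_smul' r t := LinearMap.ext fun m => section_eq_of_gm (M := G) _ _ fun z hz => by
    rw [RingHom.id_apply, LinearMap.smul_apply, gm_smul, gm_app, gm_app]
    rw [← evalStalk_θ, ← evalStalk_θ, Scheme.Modules.Hom.app_smul, gm_smul, map_smul]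
    rfl

theorem gm_toLin {G : X.Modules} (t : Γ((homZF U F).obj G, V)) (m : Γ(F, V)) {z : X} (hz : z ∈ V) :
    gm G hz (toLin U F G t m) = (homOf t).1 ⟨z, hz⟩ (gm F hz m) :=
  gm_app _ m hz

theorem toLin_mem (hF : Coh.IsCoh F) (hV : IsAffineOpen V) (G : X.Modules) [G.IsQuasicoherent]
    (t : Γ((homZF U F).obj G, V)) : toLin U F G t ∈ torsHom (idealOn U V) Γ(F, V) Γ(G, V) := by
  intro a ha
  haveI := CohBasics.Closure.finite_sections hF hV
  have hloc : ∀ m : Γ(F, V), ∃ k : ℕ, a ^ k • toLin U F G t m = 0 := fun m => by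
    refine (localizes_of_isAffineOpen G hV a).sep _ (section_eq_of_gm (M := G) _ _ fun z hz => ?_)
    rw [gm_res, gm_zero, gm_toLin]
    rw [homOf_eq_zero t (X.basicOpen_le a hz) (ha hz)]
    rfl
  choose k hk using hloc
  obtain ⟨S, hS⟩ := Module.Finite.fg_top (R := Γ(X, V)) (M := Γ(F, V))
  refine ⟨S.sup k, LinearMap.ext fun m => ?_⟩
  have hm : m ∈ Submodule.span Γ(X, V) (S : Set Γ(F, V)) := hS ▸ Submodule.mem_top
  induction hm using Submodule.span_induction with
  | mem x hx =>
    rw [LinearMap.smul_apply, ← Nat.sub_add_cancel (Finset.le_sup hx : k x ≤ S.sup k), pow_add, mul_smul, hk,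
      smul_zero]
    rfl
  | zero => simp
  | add x y _ _ hx hy => rw [map_add, hx, hy, map_add]
  | smul c x _ hx => rw [map_smul, hx, map_smul]

/-- Sections of supported homomorphisms are the torsion homomorphisms of the sections. -/
theorem toLin_bijective (hF : Coh.IsCoh F) (hV : IsAffineOpen V) (G : X.Modules) :
    Function.Injective (toLin (V := V) U F G) ∧ ∀ φ ∈ torsHom (idealOn U V) Γ(F, V) Γ(G, V),
      ∃ t, toLin U F G t = φ := by
  haveI : F.IsQuasicoherent := hF.1
  refine ⟨fun t t' h => inc_injective U V (section_eq_of_gm (M := (ExtShStalk.Hom.R F).obj G) _ _ fun z hz =>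
    (ExtShStalk.Hom.σ_bijective F hF G z).1 ?_), fun φ hφ => ?_⟩
  · rw [evalStalk_θ, evalStalk_θ]
    refine RefHull.SecHom.stalk_ext hV hz fun m => ?_
    have := congrArg (fun ψ : Γ(F, V) →ₗ[Γ(X, V)] Γ(G, V) => gm G hz (ψ m)) h
    rw [gm_toLin, gm_toLin] at this
    exact this
  obtain ⟨g, hg⟩ := RefHull.SecHom.exists_sec_of_linear (G := G) hV (le_refl V) φ.toAddMonoidHom
    fun r m => by
      show φ (r • m) = _
      rw [map_smul]
      exact congrArg (· • φ m) (QCoh.Localizing.resR_self _ r).symm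
  let s := (inv (ExtShStalk.Hom.θ F G)).app V g
  have hs : (ExtShStalk.Hom.θ F G).app V s = g :=
    congrArg (fun ψ : RefHull.homSh F G ⟶ RefHull.homSh F G => ψ.app V g) (IsIso.inv_hom_id (ExtShStalk.Hom.θ F G))
  have happ : ∀ m : Γ(F, V), RefHull.SecHom.app g le_rfl m = φ m := fun m => by
    have := hg m
    rwa [TensorMod.Dual.rs_self] at this
  have hsz : ∀ z (hz : z ∈ V), z ∈ U → gm ((ExtShStalk.Hom.R F).obj G) hz s = 0 := fun z hz hzU => by
    refine (ExtShStalk.Hom.σ_bijective F hF G z).1 ?_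
    rw [map_zero, evalStalk_θ, hs]
    refine RefHull.SecHom.stalk_ext hV hz fun m => ?_
    obtain ⟨a, ha, hza⟩ := hV.exists_basicOpen_le (V := V ⊓ U) ⟨z, hz, hzU⟩ hz
    obtain ⟨k, hk⟩ := hφ a (ha.trans inf_le_right)
    rw [← RefHull.SecHom.germ_app g le_rfl m z hz, happ, LinearMap.zero_apply]
    have h2 := congrArg (gm G hz) (LinearMap.congr_fun hk m)
    rw [LinearMap.smul_apply, gm_smul, LinearMap.zero_apply, gm_zero] at h2
    refine (IsUnit.smul_eq_zero ?_).1 h2
    rw [gr, map_pow]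
    exact ((X.mem_basicOpen a z hz).1 hza).pow k
  obtain ⟨t, ht⟩ := exists_inc_eq U s hsz
  refine ⟨t, LinearMap.ext fun m => ?_⟩
  show RefHull.SecHom.app ((ExtShStalk.Hom.θ F G).app V ((inc U _).app V t)) le_rfl m = φ m
  rw [ht, hs, happ]

variable (U V F) in
/-- Sections of supported homomorphisms. -/
def deg0Map (hF : Coh.IsCoh F) (hV : IsAffineOpen V) (G : X.Modules) [G.IsQuasicoherent] :
    (secMod V).obj ((homZF U F).obj G) ⟶ (torsF (idealOn U V) Γ(F, V)).obj ((secMod V).obj G) :=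
  ModuleCat.ofHom ((toLin U F G).codRestrict _ (toLin_mem hF hV G))

instance isIso_deg0Map (hF : Coh.IsCoh F) (hV : IsAffineOpen V) (G : X.Modules) [G.IsQuasicoherent] :
    IsIso (deg0Map U V F hF hV G) := by
  rw [ConcreteCategory.isIso_iff_bijective]
  refine ⟨fun a b h => (toLin_bijective hF hV G).1 (congrArg Subtype.val h), fun φ => ?_⟩
  obtain ⟨t, ht⟩ := (toLin_bijective hF hV G).2 φ.1 φ.2
  exact ⟨t, Subtype.ext ht⟩

theorem deg0Map_natural (hF : Coh.IsCoh F) (hV : IsAffineOpen V) {G G' : X.Modules} [G.IsQuasicoherent]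
    [G'.IsQuasicoherent] (h : G ⟶ G') :
    (secMod V).map ((homZF U F).map h) ≫ deg0Map U V F hF hV G' =
      deg0Map U V F hF hV G ≫ (torsF (idealOn U V) Γ(F, V)).map ((secMod V).map h) := by
  refine ModuleCat.hom_ext (LinearMap.ext fun t => Subtype.ext (LinearMap.ext fun m =>
    section_eq_of_gm (M := G') _ _ fun z hz => ?_))
  show gm G' hz (RefHull.SecHom.app (homOf (((homZF U F).map h).app V t)) le_rfl m) =
    gm G' hz (h.app V (RefHull.SecHom.app (homOf t) le_rfl m))
  rw [← stalkMapₗ_gm]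
  erw [gm_app, gm_app, homOf_natural]
  rfl

end

end Groth.Agent.Lib.ExtZAffine
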