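import Groth.Agent.Lib.ExtZAffine.Deg0
import Groth.Agent.Lib.InjMod.Hull
import Groth.Agent.Lib.InjMod.QCohInj
import Groth.Agent.Lib.InjMod.Stalk
import Groth.Agent.Lib.RDer.Compare
import Groth.Agent.Lib.ModSS29.OpenFree

/-!
# Ext sheaves with supports on affine opens
-/

set_option autoImplicit false
set_option linter.style.haveILetI false
universe u

open CategoryTheory Limits AlgebraicGeometry Opposite TopologicalSpace

namespace Groth.Agent.Lib.ExtZAffine

open Groth.Agent.Lib Groth.Agent.Lib.QCoh.Localizing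

noncomputable section

variable {X : Scheme.{u}} (U V : X.Opens)

instance preservesFiniteLimits_sectM : PreservesFiniteLimits (sectM U) :=
  haveI : (sectM U).IsRightAdjoint := (ModSS29.OpenFree.adjQ U X.sheaf).isRightAdjoint
  haveI : PreservesLimitsOfSize.{0, 0} (sectM U) :=
    (Adjunction.ofIsRightAdjoint (sectM U)).rightAdjoint_preservesLimits
  PreservesLimitsOfSize.preservesFiniteLimits _

variable {V}

/-- Sections of a kernel. -/
theorem exists_of_app_eq_zero (V : X.Opens) {S : ShortComplex X.Modules} (hS : S.Exact) [Mono S.f]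
    (b : Γ(S.X₂, V)) (hb : S.g.app V b = 0) : ∃ a : Γ(S.X₁, V), S.f.app V a = b := by
  let F := QCoh.Closure.sectionsFunctor V
  haveI : PreservesLimit (parallelPair S.g 0) F := inferInstance
  have h := ((S.map F).exact_and_mono_f_iff_f_is_kernel).2 ⟨KernelFork.mapIsLimit _ hS.fIsKernel F⟩
  exact (ShortComplex.ab_exact_iff _).1 h.1 b hb

/-- Sections on affine opens carry cokernels of quasi-coherent modules to cokernels. -/
theorem nonempty_cokernel_iso (hV : IsAffineOpen V) (S : ShortComplex X.Modules) (hS : S.Exact) [Epi S.g]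
    [S.X₁.IsQuasicoherent] [S.X₂.IsQuasicoherent] :
    Nonempty (cokernel ((secMod V).map S.f) ≅ (secMod V).obj S.X₃) := by
  haveI : S.X₃.IsQuasicoherent := QCoh.Closure.isQCoh_of_exact_epi hS
  let d : cokernel ((secMod V).map S.f) ⟶ (secMod V).obj S.X₃ := cokernel.desc _ ((secMod V).map S.g) (by
    rw [← Functor.map_comp, S.zero, Functor.map_zero])
  have hd : ∀ b, d (cokernel.π ((secMod V).map S.f) b) = S.g.app V b := fun b =>
    (ConcreteCategory.congr_hom (cokernel.π_desc ((secMod V).map S.f) ((secMod V).map S.g) _) b)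
  have hsurj : Function.Surjective (cokernel.π ((secMod V).map S.f)) :=
    (ModuleCat.epi_iff_surjective _).1 inferInstance
  have : IsIso d := by
    rw [ConcreteCategory.isIso_iff_bijective]
    refine ⟨(injective_iff_map_eq_zero _).2 fun z hz => ?_, fun c => ?_⟩
    · obtain ⟨b, rfl⟩ := hsurj z
      have hb : S.g.app V b = 0 := (hd b).symm.trans hz
      let T := ShortComplex.mk (kernel.ι S.g) S.g (kernel.condition S.g)
      haveI : Mono T.f := inferInstanceAs (Mono (kernel.ι S.g))
      obtain ⟨k, hk⟩ := exists_of_app_eq_zero V (T.exact_of_f_is_kernel (kernelIsKernel S.g)) b hb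
      haveI : Epi (kernel.lift S.g S.f S.zero) := S.exact_iff_epi_kernel_lift.1 hS
      haveI : (kernel S.g).IsQuasicoherent := QCoh.Closure.isQCoh_kernel S.g
      obtain ⟨a, ha⟩ := QCoh.Closure.sections_surjective_of_epi (kernel.lift S.g S.f S.zero) hV k
      have hab : S.f.app V a = b := by
        rw [← hk, ← ha]
        exact (congrArg (fun φ : S.X₁ ⟶ S.X₂ => φ.app V a) (kernel.lift_ι S.g S.f S.zero)).symm
      rw [← hab]
      exact ConcreteCategory.congr_hom (cokernel.condition ((secMod V).map S.f)) a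
    · obtain ⟨b, hb⟩ := QCoh.Closure.sections_surjective_of_epi S.g hV c
      exact ⟨cokernel.π ((secMod V).map S.f) b, (hd b).trans hb⟩
  exact ⟨asIso d⟩

/-- Sections on affine opens keep short exact sequences of quasi-coherent modules. -/
theorem shortExact_secMod (hV : IsAffineOpen V) {S : ShortComplex X.Modules} (hS : S.ShortExact)
    [S.X₁.IsQuasicoherent] [S.X₂.IsQuasicoherent] : (S.map (secMod V)).ShortExact := by
  haveI := hS.mono_f
  haveI := hS.epi_g
  haveI : S.X₃.IsQuasicoherent := QCoh.Closure.isQCoh_of_exact_epi hS.exact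
  refine { exact := ?_, mono_f := ?_, epi_g := ?_ }
  · rw [ShortComplex.moduleCat_exact_iff]
    exact fun b hb => exists_of_app_eq_zero V hS.exact b hb
  · exact (ModuleCat.mono_iff_injective _).2 ((Modules.Stalk.mono_iff_app_injective S.f).1 inferInstance V)
  · exact (ModuleCat.epi_iff_surjective _).2 (QCoh.Closure.sections_surjective_of_epi S.g hV)

variable [IsLocallyNoetherian X] (F : X.Modules) [ModSite.HasSheafHom (O := X.sheaf) F]

instance additive_homZF : (homZF U F).Additive :=
  haveI : (ExtShStalk.Hom.R F).Additive := (ExtShStalk.Hom.adj F).right_adjoint_additive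
  haveI : PreservesBinaryBiproducts (sectM U) := preservesBinaryBiproducts_of_preservesBinaryProducts _
  haveI : (sectM U).Additive := Functor.additive_of_preservesBinaryBiproducts _
  inferInstance

instance preservesFiniteLimits_homZF : PreservesFiniteLimits (homZF U F) :=
  haveI : PreservesLimitsOfSize.{0, 0} (ExtShStalk.Hom.R F) :=
    (ExtShStalk.Hom.adj F).rightAdjoint_preservesLimits
  haveI : PreservesFiniteLimits (ExtShStalk.Hom.R F) := PreservesLimitsOfSize.preservesFiniteLimits _
  comp_preservesFiniteLimits _ _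

variable {F}

theorem isQCoh_homZF (hF : Coh.IsCoh F) (G : X.Modules) (hG : Coh.IsQCoh G) :
    Coh.IsQCoh ((homZF U F).obj G) := by
  refine isQCoh_sectOn U _ ?_
  haveI : (RefHull.homSh F G).IsQuasicoherent := RefHull.HomSh.isQCoh_homSh hF hG
  exact CohBasics.Closure.isQCoh_of_iso (asIso (ExtShStalk.Hom.θ F G)).symm

variable [HasInjectiveResolutions X.Modules]

/-- Ext sheaves with supports of a coherent module into a quasi-coherent one are quasi-coherent, with
the expected sections on affine opens. -/
theorem main (hF : Coh.IsCoh F) : ∀ (q : ℕ) (G : X.Modules), Coh.IsQCoh G →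
    Coh.IsQCoh (((homZF U F).rightDerived q).obj G) ∧ ∀ V : X.Opens, IsAffineOpen V →
      Nonempty ((secMod V).obj (((homZF U F).rightDerived q).obj G) ≅
        ((torsF (idealOn U V) Γ(F, V)).rightDerived q).obj ((secMod V).obj G)) := by
  haveI : EnoughInjectives X.Modules := DerivedOX.Grothendieck.enoughInjectives_modules X
  let r₀ := (homZF U F).rightDerivedZeroIsoSelf
  intro q
  induction q with
  | zero =>
    intro G hG
    haveI : G.IsQuasicoherent := hG
    haveI : ((homZF U F).obj G).IsQuasicoherent := isQCoh_homZF U hF G hG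
    exact ⟨CohBasics.Closure.isQCoh_of_iso (r₀.app G).symm, fun V hV =>
      ⟨(secMod V).mapIso (r₀.app G) ≪≫ asIso (deg0Map U V F hF hV G) ≪≫
        ((torsF (idealOn U V) Γ(F, V)).rightDerivedZeroIsoSelf.app _).symm⟩⟩
  | succ n ih =>
    intro G hG
    haveI : G.IsQuasicoherent := hG
    obtain ⟨Q, j, hj, hQ, hQc⟩ := InjMod.exists_qcoh_hull G
    haveI : Q.IsQuasicoherent := hQc
    haveI : (cokernel j).IsQuasicoherent := QCoh.Closure.isQCoh_cokernel j
    let S : ShortComplex X.Modules := ShortComplex.mk j (cokernel.π j) (cokernel.condition _)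
    have hS : S.ShortExact := { exact := ShortComplex.exact_of_g_is_cokernel _ (cokernelIsCokernel _) }
    haveI : S.X₁.IsQuasicoherent := hG
    haveI : S.X₂.IsQuasicoherent := hQc
    obtain ⟨Δ⟩ := RDer.Connecting.nonempty_derivedLES (homZF U F)
    have hz : ∀ k, IsZero (((homZF U F).rightDerived (k + 1)).obj S.X₂) := fun k =>
      (homZF U F).isZero_rightDerived_obj_injective_succ k Q
    have hz' : ∀ V : X.Opens, IsAffineOpen V → ∀ k, IsZero (((torsF (idealOn U V) Γ(F, V)).rightDerived (k + 1)).obj
        (S.map (secMod V)).X₂) := fun V hV k => by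
      haveI : Injective ((secMod V).obj Q) :=
        haveI := InjMod.injective_sections (fun x => InjMod.injective_stalk hQ x) hV
        Module.injective_object_of_injective_module Γ(X, V) Γ(Q, V)
      exact (torsF (idealOn U V) Γ(F, V)).isZero_rightDerived_obj_injective_succ k ((secMod V).obj Q)
    cases n with
    | zero =>
      haveI hq2 : (((homZF U F).rightDerived 0).obj S.X₂).IsQuasicoherent := (ih Q hQc).1
      haveI hq3 : (((homZF U F).rightDerived 0).obj S.X₃).IsQuasicoherent :=
        (ih (cokernel j) ‹(cokernel j).IsQuasicoherent›).1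
      haveI : (cokernel (((homZF U F).rightDerived 0).map S.g)).IsQuasicoherent := QCoh.Closure.isQCoh_cokernel _
      refine ⟨CohBasics.Closure.isQCoh_of_iso (RDer.Compare.cokernelIso Δ hS (hz 0)), fun V hV => ?_⟩
      obtain ⟨Δ'⟩ := RDer.Connecting.nonempty_derivedLES (torsF (idealOn U V) Γ(F, V))
      let g₀ := ((homZF U F).rightDerived 0).map S.g
      let T : ShortComplex X.Modules := ShortComplex.mk g₀ (cokernel.π g₀) (cokernel.condition _)
      haveI : T.X₁.IsQuasicoherent := hq2
      haveI : T.X₂.IsQuasicoherent := hq3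
      haveI : Epi T.g := inferInstanceAs (Epi (cokernel.π g₀))
      obtain ⟨e⟩ := nonempty_cokernel_iso hV T (ShortComplex.exact_of_g_is_cokernel _ (cokernelIsCokernel _))
      haveI : S.X₃.IsQuasicoherent := ‹(cokernel j).IsQuasicoherent›
      let α₂ : (secMod V).obj (((homZF U F).rightDerived 0).obj S.X₂) ≅
          ((torsF (idealOn U V) Γ(F, V)).rightDerived 0).obj ((secMod V).obj S.X₂) :=
        (secMod V).mapIso (r₀.app S.X₂) ≪≫ asIso (deg0Map U V F hF hV S.X₂) ≪≫
          ((torsF (idealOn U V) Γ(F, V)).rightDerivedZeroIsoSelf.app _).symm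
      let α₃ : (secMod V).obj (((homZF U F).rightDerived 0).obj S.X₃) ≅
          ((torsF (idealOn U V) Γ(F, V)).rightDerived 0).obj ((secMod V).obj S.X₃) :=
        (secMod V).mapIso (r₀.app S.X₃) ≪≫ asIso (deg0Map U V F hF hV S.X₃) ≪≫
          ((torsF (idealOn U V) Γ(F, V)).rightDerivedZeroIsoSelf.app _).symm
      have hcomm : (secMod V).map g₀ ≫ α₃.hom =
          α₂.hom ≫ ((torsF (idealOn U V) Γ(F, V)).rightDerived 0).map ((secMod V).map S.g) := by
        simp only [α₂, α₃, Iso.trans_hom, Functor.mapIso_hom, Iso.app_hom, asIso_hom, Iso.symm_hom, Iso.app_inv,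
          Category.assoc]
        rw [← (secMod V).map_comp_assoc, show g₀ ≫ r₀.hom.app S.X₃ = r₀.hom.app S.X₂ ≫ (homZF U F).map S.g from
          r₀.hom.naturality S.g, (secMod V).map_comp_assoc]
        exact congrArg ((secMod V).map (r₀.hom.app S.X₂) ≫ ·)
          ((Category.assoc _ _ _).symm.trans ((congrArg (· ≫
              (torsF (idealOn U V) Γ(F, V)).rightDerivedZeroIsoSelf.inv.app ((secMod V).obj S.X₃))
            (deg0Map_natural hF hV S.g)).trans ((Category.assoc _ _ _).trans (congrArg (deg0Map U V F hF hV S.X₂ ≫ ·)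
              ((torsF (idealOn U V) Γ(F, V)).rightDerivedZeroIsoSelf.inv.naturality ((secMod V).map S.g))))))
      exact ⟨(secMod V).mapIso (RDer.Compare.cokernelIso Δ hS (hz 0)).symm ≪≫ e.symm ≪≫
        cokernel.mapIso ((secMod V).map g₀) (((torsF (idealOn U V) Γ(F, V)).rightDerived 0).map ((secMod V).map S.g))
          α₂ α₃ hcomm ≪≫ RDer.Compare.cokernelIso Δ' (shortExact_secMod hV hS) (hz' V hV 0)⟩
    | succ m =>
      obtain ⟨h1, h2⟩ := ih (cokernel j) ‹(cokernel j).IsQuasicoherent›
      haveI : (((homZF U F).rightDerived (m + 1)).obj S.X₃).IsQuasicoherent := h1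
      refine ⟨CohBasics.Closure.isQCoh_of_iso (RDer.Compare.shiftIso Δ hS m (hz m) (hz (m + 1))), fun V hV => ?_⟩
      obtain ⟨Δ'⟩ := RDer.Connecting.nonempty_derivedLES (torsF (idealOn U V) Γ(F, V))
      obtain ⟨e⟩ := h2 V hV
      exact ⟨(secMod V).mapIso (RDer.Compare.shiftIso Δ hS m (hz m) (hz (m + 1))).symm ≪≫ e ≪≫
        RDer.Compare.shiftIso Δ' (shortExact_secMod hV hS) m (hz' V hV m) (hz' V hV (m + 1))⟩

end

end Groth.Agent.Lib.ExtZAffine
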