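import Groth.Agent.Lib.LCFin.ExtLoc
import Groth.Agent.Lib.Goren.InjDim
import Groth.Agent.Lib.Depth.Local
import Groth.Agent.Lib.Depth.Ext
import Groth.Agent.Lib.DR.GapSplit
import Groth.Agent.Lib.Regular.Serre
import Groth.Agent.Lib.ExtShStalk.Vanish
import Groth.Agent.H20.CMDim
import Mathlib.RingTheory.Filtration

/-!
# Vanishing of Ext groups, prime by prime
-/

set_option autoImplicit false
set_option linter.style.haveILetI false
universe u

open CategoryTheory IsLocalRing

namespace Groth.Agent.Lib.ExtZAffine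

open Groth.Agent.Lib

variable {A : Type u} [CommRing A] [IsNoetherianRing A] (L N : Type u) [AddCommGroup L] [Module A L]
  [Module.Finite A L] [AddCommGroup N] [Module A N]

/-- Ext vanishes when it vanishes at the primes of the support of the source. -/
theorem subsingleton_ext_of_localized (q : ℕ)
    (h : ∀ p : PrimeSpectrum A, p ∈ Module.support A L → Subsingleton (Abelian.Ext.{u}
      (ModuleCat.of (Localization p.asIdeal.primeCompl) (LocalizedModule p.asIdeal.primeCompl L))
      (ModuleCat.of (Localization p.asIdeal.primeCompl) (LocalizedModule p.asIdeal.primeCompl N)) q)) :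
    Subsingleton (Abelian.Ext.{u} (ModuleCat.of A L) (ModuleCat.of A N) q) := by
  refine (Module.support_eq_empty_iff (R := A)).1 (Set.eq_empty_of_forall_notMem fun p => ?_)
  rw [Module.notMem_support_iff]
  obtain ⟨e⟩ := LCFin.ExtLoc.nonempty_equiv p.asIdeal.primeCompl N q L
  refine @Equiv.subsingleton _ _ e.toEquiv ?_
  by_cases hp : p ∈ Module.support A L
  · exact h p hp
  · haveI := Module.notMem_support_iff.1 hp
    exact Goren.InjDim.subsingleton_ext_of_subsingleton _ _ q

/-- Ext vanishes below the depth along the support. -/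
theorem subsingleton_ext_of_depth [Module.Finite A N] {n q : ℕ} (hq : q < n)
    (h : ∀ p : PrimeSpectrum A, p ∈ Module.support A L →
      (n : ℕ∞) ≤ LocCoh.depth (Localization.AtPrime p.asIdeal) (LocalizedModule p.asIdeal.primeCompl N)) :
    Subsingleton (Abelian.Ext.{u} (ModuleCat.of A L) (ModuleCat.of A N) q) := by
  refine (Depth.Ext.le_idealDepth_iff_forall_ext (Module.annihilator A L) N n).1 ?_ (ModuleCat.of A L)
    Module.support_eq_zeroLocus.subset q hq
  rw [Depth.Local.idealDepth_eq_iInf]
  refine le_iInf₂ fun p hp => h p ?_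
  rw [Module.support_eq_zeroLocus]
  exact hp

/-- Over a regular local ring Ext vanishes above the dimension. -/
theorem subsingleton_ext_of_regular (R : Type u) [CommRing R] [IsRegularLocalRing R] {q : ℕ}
    (hq : ringKrullDim R < (q : WithBot ℕ∞)) (P Q : ModuleCat.{u} R) : Subsingleton (Abelian.Ext.{u} P Q q) := by
  obtain ⟨d, hd⟩ : ∃ d : ℕ, ringKrullDim R = d := ⟨_, (IsRegularLocalRing.spanFinrank_maximalIdeal (R := R)).symm⟩
  rw [hd, Nat.cast_lt] at hq
  haveI := DR.GapSplit.hasProjectiveDimensionLT_of_regular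
    (fun p => Regular.Serre.isRegularLocalRing_localization p.asIdeal) d hd P
  exact HasProjectiveDimensionLT.subsingleton P (d + 1) q hq Q

/-- Ext vanishes above the dimensions along a regular support. -/
theorem subsingleton_ext_of_dim_lt {q : ℕ}
    (h : ∀ p : PrimeSpectrum A, p ∈ Module.support A L → IsRegularLocalRing (Localization.AtPrime p.asIdeal) ∧
      ringKrullDim (Localization.AtPrime p.asIdeal) < (q : WithBot ℕ∞)) :
    Subsingleton (Abelian.Ext.{u} (ModuleCat.of A L) (ModuleCat.of A N) q) :=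
  subsingleton_ext_of_localized L N q fun p hp =>
    haveI := (h p hp).1
    subsingleton_ext_of_regular (Localization.AtPrime p.asIdeal) (h p hp).2 _ _

omit [IsNoetherianRing A] in
/-- Between two primes of a regular local ring lie primes of every intermediate height. -/
theorem exists_height_eq {R : Type u} [CommRing R] [IsRegularLocalRing R] (q : PrimeSpectrum R) {n : ℕ}
    (hq : q.asIdeal.height ≤ n) (hn : (n : ℕ∞) ≤ (maximalIdeal R).height) :
    ∃ r : PrimeSpectrum R, q ≤ r ∧ r.asIdeal.height = n := by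
  haveI := Goren.Basic.isGorensteinLocalRing_of_isRegular R
  obtain ⟨k, hk⟩ := Goren.Basic.isGorensteinLocalRing_iff.1 ‹LocCoh.IsGorensteinLocalRing R›
  obtain ⟨d, -, -, hCM, -⟩ := Goren.Basic.exists_dim hk
  haveI := hCM
  have hsupp : Module.support R R = Set.univ := by
    simp [Module.support_eq_zeroLocus, Module.annihilator_eq_bot.mpr]
  obtain ⟨r, ⟨hqr, hr⟩, hmax⟩ := set_has_maximal_iff_noetherian.2 (inferInstance : IsNoetherian R R)
    {I : Ideal R | q.asIdeal ≤ I ∧ ∃ h : I.IsPrime, I.height ≤ n} ⟨q.asIdeal, le_rfl, q.2, hq⟩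
  obtain ⟨hrp, hrn⟩ := hr
  refine ⟨⟨r, hrp⟩, hqr, le_antisymm hrn (not_lt.1 fun hlt => ?_)⟩
  have hne : r ≠ maximalIdeal R := fun e => absurd (e ▸ hlt) (not_lt.2 hn)
  let T : Set ℕ∞ := (fun s : PrimeSpectrum R => s.asIdeal.height) '' {s | (⟨r, hrp⟩ : PrimeSpectrum R) < s}
  obtain ⟨_, ⟨s, hs, rfl⟩, hsmin⟩ := wellFounded_lt.has_min T
    ⟨_, ⟨closedPoint R, lt_of_le_of_ne (le_maximalIdeal hrp.ne_top)
      hne, rfl⟩⟩
  have hcov : (⟨r, hrp⟩ : PrimeSpectrum R) ⋖ s := ⟨hs, fun t h1 h2 => hsmin _ ⟨t, h1, rfl⟩ (by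
    haveI := t.2
    exact Ideal.height_strict_mono_of_isPrime h2)⟩
  have h1 := H20.CMDim.height_eq_add_one_of_covBy (Depth.CM.isCohenMacaulayModule_self (R := R)) hsupp hcov
  have hlt2 : r < s.asIdeal := hs
  exact hmax s.asIdeal ⟨hqr.trans hlt2.le, s.2, h1 ▸ Order.add_one_le_of_lt hlt⟩ hlt2

/-- Ext into the ring vanishes in the degrees different from the heights in a regular support. -/
theorem subsingleton_ext_self_of_height_ne {n : ℕ}
    (h : ∀ p : PrimeSpectrum A, p ∈ Module.support A L → IsRegularLocalRing (Localization.AtPrime p.asIdeal) ∧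
      p.asIdeal.height ≠ n) :
    Subsingleton (Abelian.Ext.{u} (ModuleCat.of A L) (ModuleCat.of A A) n) := by
  refine subsingleton_ext_of_localized L A n fun p hp => ?_
  let R := Localization.AtPrime p.asIdeal
  haveI : IsRegularLocalRing R := (h p hp).1
  rcases lt_or_gt_of_ne (h p hp).2 with hlt | hgt
  · refine subsingleton_ext_of_regular R ?_ _ _
    rw [IsLocalization.AtPrime.ringKrullDim_eq_height p.asIdeal]
    exact_mod_cast hlt
  haveI : Module.Finite R (LocalizedModule p.asIdeal.primeCompl L) :=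
    Module.Finite.of_isLocalizedModule p.asIdeal.primeCompl (LocalizedModule.mkLinearMap p.asIdeal.primeCompl L)
  haveI : Module.Finite R (LocalizedModule p.asIdeal.primeCompl A) :=
    Module.Finite.of_isLocalizedModule p.asIdeal.primeCompl (LocalizedModule.mkLinearMap p.asIdeal.primeCompl A)
  refine subsingleton_ext_of_depth (A := R) (LocalizedModule p.asIdeal.primeCompl L)
    (LocalizedModule p.asIdeal.primeCompl A) (Nat.lt_succ_self n) fun r hr => ?_
  have hbig : ∀ s : PrimeSpectrum R, r ≤ s → s.asIdeal.height ≠ n := by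
    intro s hs e
    have hmem : PrimeSpectrum.comap (algebraMap A R) s ∈ Module.support A L := by
      rw [Module.support_eq_zeroLocus]
      intro a ha
      refine hs ?_
      have hann := (Module.mem_support_iff_of_finite).1 hr
      refine hann (Module.mem_annihilator.2 fun z => ?_)
      induction z using LocalizedModule.induction_on with
      | h y t =>
        rw [algebraMap_smul, LocalizedModule.smul'_mk, Module.mem_annihilator.1 ha y, LocalizedModule.zero_mk]
    refine (h _ hmem).2 ?_
    rw [← e]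
    exact IsLocalization.height_under p.asIdeal.primeCompl s.asIdeal
  let e : LocalizedModule r.asIdeal.primeCompl R ≃ₗ[Localization.AtPrime r.asIdeal] Localization.AtPrime r.asIdeal :=
    LinearEquiv.refl _ _
  haveI : IsRegularLocalRing (Localization.AtPrime r.asIdeal) := Regular.Serre.isRegularLocalRing_localization r.asIdeal
  rw [show LocCoh.depth (Localization.AtPrime r.asIdeal)
      (LocalizedModule r.asIdeal.primeCompl (LocalizedModule p.asIdeal.primeCompl A)) =
        LocCoh.depth (Localization.AtPrime r.asIdeal) (Localization.AtPrime r.asIdeal) from Depth.Basic.depth_congr e]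
  have h1 := ExtShStalk.Vanish.ringKrullDim_eq_depth (Localization.AtPrime r.asIdeal)
  rw [IsLocalization.AtPrime.ringKrullDim_eq_height r.asIdeal, WithBot.coe_inj] at h1
  rw [← h1, Nat.cast_succ]
  refine Order.add_one_le_of_lt (not_le.1 fun hle => ?_)
  have hmax : (n : ℕ∞) ≤ (maximalIdeal R).height := by
    have := (IsLocalization.AtPrime.ringKrullDim_eq_height p.asIdeal R)
    rw [← IsLocalRing.maximalIdeal_height_eq_ringKrullDim, WithBot.coe_inj] at this
    rw [this]
    exact hgt.le
  obtain ⟨s, hrs, hs⟩ := exists_height_eq r hle hmax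
  exact hbig s hrs hs

omit [IsNoetherianRing A] [Module.Finite A L] in
theorem notMem_support_of_forall (p : PrimeSpectrum A) (h : ∀ y : L, ∃ g ∉ p.asIdeal, g • y = 0) :
    p ∉ Module.support A L := Module.notMem_support_iff'.2 h

/-- Large powers of an ideal meet the torsion trivially. -/
theorem exists_pow_torsion_eq_zero (I : Ideal A) (M : Type u) [AddCommGroup M] [Module A M] [Module.Finite A M] :
    ∃ m : ℕ, ∀ y ∈ I ^ m • (⊤ : Submodule A M), (∀ a ∈ I, ∃ k : ℕ, a ^ k • y = 0) → y = 0 := by
  let T : Submodule A M :=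
    { carrier := {y | ∀ a ∈ I, ∃ k : ℕ, a ^ k • y = 0}
      zero_mem' := fun a _ => ⟨0, smul_zero _⟩
      add_mem' := fun {y z} hy hz a ha => by
        obtain ⟨k, hk⟩ := hy a ha
        obtain ⟨l, hl⟩ := hz a ha
        refine ⟨k + l, ?_⟩
        rw [smul_add]
        nth_rw 1 [pow_add, mul_comm, mul_smul, hk, smul_zero]
        rw [pow_add, mul_smul, hl, smul_zero, add_zero]
      smul_mem' := fun c y hy a ha => (hy a ha).imp fun k hk => by rw [smul_comm, hk, smul_zero] }
  have hle : I ≤ Ideal.radical (T.annihilator) := by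
    intro a ha
    have hloc : ∀ y : T, ∃ k : ℕ, a ^ k • (y : M) = 0 := fun y => y.2 a ha
    choose k hk using hloc
    obtain ⟨S, hS⟩ := (IsNoetherian.noetherian (⊤ : Submodule A T))
    refine ⟨S.sup k, Submodule.mem_annihilator.2 fun y hy => ?_⟩
    have hm : (⟨y, hy⟩ : T) ∈ Submodule.span A (S : Set T) := hS ▸ Submodule.mem_top
    suffices a ^ S.sup k • (⟨y, hy⟩ : T) = 0 from congrArg Subtype.val this
    generalize (⟨y, hy⟩ : T) = z at hm ⊢
    induction hm using Submodule.span_induction with
    | mem x hx =>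
      refine Subtype.ext ?_
      show a ^ S.sup k • (x : M) = 0
      rw [← Nat.sub_add_cancel (Finset.le_sup hx : k x ≤ S.sup k), pow_add, mul_smul, hk, smul_zero]
    | zero => exact smul_zero _
    | add x z _ _ hx hz => rw [smul_add, hx, hz, add_zero]
    | smul c x _ hx => rw [smul_comm, hx, smul_zero]
  obtain ⟨k₀, hk₀⟩ := Ideal.exists_pow_le_of_le_radical_of_fg hle (IsNoetherian.noetherian I)
  obtain ⟨c, hc⟩ := I.exists_pow_inf_eq_pow_smul T
  refine ⟨c + k₀, fun y hy hyT => ?_⟩
  have h1 : y ∈ I ^ (c + k₀) • (⊤ : Submodule A M) ⊓ T := ⟨hy, hyT⟩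
  rw [hc _ (Nat.le_add_right c k₀), Nat.add_sub_cancel_left] at h1
  have h2 : I ^ k₀ • (I ^ c • (⊤ : Submodule A M) ⊓ T) ≤ (⊥ : Submodule A M) :=
    (Submodule.smul_mono hk₀ inf_le_right).trans (Submodule.annihilator_smul T).le
  exact (Submodule.mem_bot A).1 (h2 h1)

end Groth.Agent.Lib.ExtZAffine
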