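import Groth.Agent.Lib.ExtZAffine.Results
import Groth.Agent.Lib.ExtZAffine.Vanish
import Groth.Agent.Lib.ExtShDepth.Stalk

/-!
# Points of affine opens and coherence criteria for Ext sheaves with supports
-/

set_option autoImplicit false
set_option linter.style.haveILetI false
universe u

open CategoryTheory Limits AlgebraicGeometry Opposite TopologicalSpace

namespace Groth.Agent.Lib.ExtZAffine

open Groth.Agent.Lib Groth.Agent.Lib.Modules StalkModule Groth.Agent.Lib.QCoh.Localizing
open Groth.Agent.Lib.InjMod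

noncomputable section

variable {X : Scheme.{u}} {V : X.Opens} (hV : IsAffineOpen V) (p : PrimeSpectrum Γ(X, V))

/-- The point of a prime. -/
abbrev pt : X := hV.fromSpec p

theorem pt_mem : pt hV p ∈ V := by
  rw [← SetLike.mem_coe, ← hV.range_fromSpec]
  exact ⟨p, rfl⟩

theorem primeIdealOf_pt : hV.primeIdealOf ⟨pt hV p, pt_mem hV p⟩ = p :=
  hV.fromSpec.isOpenEmbedding.injective (hV.fromSpec_primeIdealOf ⟨pt hV p, pt_mem hV p⟩)

theorem notMem_iff (a : Γ(X, V)) : a ∉ p.asIdeal ↔ pt hV p ∈ X.basicOpen a := by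
  rw [mem_basicOpen_iff hV (pt_mem hV p) a]
  show a ∉ p.asIdeal ↔ a ∉ (hV.primeIdealOf ⟨pt hV p, pt_mem hV p⟩).asIdeal
  rw [primeIdealOf_pt]

/-- Points of the closed set. -/
theorem pt_notMem_iff (U : X.Opens) : pt hV p ∉ U ↔ idealOn U V ≤ p.asIdeal := by
  constructor
  · intro h a ha
    by_contra hap
    exact h (ha ((notMem_iff hV p a).1 hap))
  · intro h hU
    obtain ⟨a, ha, hxa⟩ := hV.exists_basicOpen_le (V := V ⊓ U) ⟨pt hV p, pt_mem hV p, hU⟩ (pt_mem hV p)
    exact (notMem_iff hV p a).2 hxa (h (ha.trans inf_le_right))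

/-- A basic open around a point missing a closed set. -/
theorem exists_notMem_of_notMem_closure {S : Set X} (h : pt hV p ∉ closure S) :
    ∃ g : Γ(X, V), g ∉ p.asIdeal ∧ ∀ z ∈ X.basicOpen g, z ∉ S := by
  obtain ⟨g, hg, hxg⟩ := hV.exists_basicOpen_le
    (V := V ⊓ ⟨(closure S)ᶜ, isClosed_closure.isOpen_compl⟩) ⟨pt hV p, pt_mem hV p, h⟩ (pt_mem hV p)
  exact ⟨g, (notMem_iff hV p g).2 hxg, fun z hz hzS => (hg hz).2 (subset_closure hzS)⟩

variable {F : X.Modules} [F.IsQuasicoherent]

/-- Primes of the support give points of the support. -/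
theorem pt_mem_support (h : p ∈ Module.support Γ(X, V) Γ(F, V)) : pt hV p ∈ CohB1.support F := by
  intro hs
  refine Module.notMem_support_iff'.2 (fun m => ?_) h
  obtain ⟨f, hf, hfm⟩ := (StalkLoc.Basic.germ_eq_zero_iff hV (pt_mem hV p) m).1 (hs.elim _ _)
  exact ⟨f, (notMem_iff hV p f).2 hf, hfm⟩

/-- Depth at a prime is depth at the point. -/
theorem depth_localization_pt :
    LocCoh.depth (Localization.AtPrime p.asIdeal) (LocalizedModule p.asIdeal.primeCompl Γ(F, V)) =
      LocCoh.depth (X.presheaf.stalk (pt hV p)) (F.presheaf.stalk (pt hV p)) := by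
  let _ := StalkLoc.Basic.moduleSections F (pt_mem hV p)
  let _ := TopCat.Presheaf.algebra_section_stalk X.presheaf (⟨pt hV p, pt_mem hV p⟩ : V)
  have := StalkLoc.Basic.isScalarTower_sections F (pt_mem hV p)
  have h1 := hV.isLocalization_stalk ⟨pt hV p, pt_mem hV p⟩
  have h2 := StalkLoc.Basic.isLocalizedModule_germ (M := F) hV (pt_mem hV p)
  simp only [primeIdealOf_pt] at h1 h2
  exact (ExtShDepth.depth_localization_eq p.asIdeal (X.presheaf.stalk (pt hV p)) (F.presheaf.stalk (pt hV p))
    (StalkLoc.Basic.germₗ F (pt_mem hV p))).symm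

omit F in
/-- The local ring at a prime is the local ring at the point. -/
theorem regular_pt (h : IsRegularLocalRing (X.presheaf.stalk (pt hV p))) :
    IsRegularLocalRing (Localization.AtPrime p.asIdeal) ∧
      ringKrullDim (Localization.AtPrime p.asIdeal) = ringKrullDim (X.presheaf.stalk (pt hV p)) := by
  let _ := TopCat.Presheaf.algebra_section_stalk X.presheaf (⟨pt hV p, pt_mem hV p⟩ : V)
  have h1 := hV.isLocalization_stalk ⟨pt hV p, pt_mem hV p⟩
  simp only [primeIdealOf_pt] at h1
  let e := (IsLocalization.algEquiv p.asIdeal.primeCompl (Localization.AtPrime p.asIdeal)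
    (X.presheaf.stalk (pt hV p))).toRingEquiv
  haveI := h
  exact ⟨IsRegularLocalRing.of_ringEquiv e.symm, ringKrullDim_eq_of_ringEquiv e⟩

variable (U : X.Opens)

theorem mem_support_quotient {M : Type u} [AddCommGroup M] [Module Γ(X, V) M] (I : Ideal Γ(X, V)) (k : ℕ)
    (h : p ∈ Module.support Γ(X, V) (M ⧸ I ^ k • (⊤ : Submodule Γ(X, V) M))) :
    I ≤ p.asIdeal ∧ p ∈ Module.support Γ(X, V) M := by
  refine ⟨fun a ha => ?_, Module.support_subset_of_surjective _ (Submodule.mkQ_surjective _) h⟩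
  by_contra hap
  refine Module.notMem_support_iff'.2 (fun y => ?_) h
  obtain ⟨y, rfl⟩ := Submodule.mkQ_surjective _ y
  refine ⟨a ^ k, fun hk => hap (p.2.mem_of_pow_mem k hk), ?_⟩
  rw [← map_smul]
  exact (Submodule.Quotient.mk_eq_zero _).2 (Submodule.smul_mem_smul (Ideal.pow_mem_pow ha k) Submodule.mem_top)

/-- The primes in the subquotients by large powers lie on the closure of the support off the closed set. -/
theorem exists_pow_support [IsLocallyNoetherian X] (hF : Coh.IsCoh F) :
    ∃ m : ℕ, ∀ k : ℕ, ∀ q : PrimeSpectrum Γ(X, V), q ∈ Module.support Γ(X, V)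
        ((idealOn U V ^ m • (⊤ : Submodule Γ(X, V) Γ(F, V))).map
          (Submodule.mkQ (idealOn U V ^ k • (⊤ : Submodule Γ(X, V) Γ(F, V))))) →
      pt hV q ∉ U ∧ pt hV q ∈ closure (CohB1.support F ∩ (U : Set X)) := by
  haveI := InjMod.isNoetherianRing_sections hV
  haveI := CohBasics.Closure.finite_sections hF hV
  obtain ⟨m, hm⟩ := exists_pow_torsion_eq_zero (idealOn U V) Γ(F, V)
  refine ⟨m, fun k q hq => ⟨(pt_notMem_iff hV q U).2 (mem_support_quotient q (idealOn U V) k
    (Module.support_subset_of_injective _ (Submodule.injective_subtype _) hq)).1, ?_⟩⟩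
  by_contra hcl
  obtain ⟨g, hgq, hg⟩ := exists_notMem_of_notMem_closure hV q hcl
  refine Module.notMem_support_iff'.2 (fun z => ?_) hq
  obtain ⟨y, hy, hyz⟩ := Submodule.mem_map.1 z.2
  obtain ⟨S, hS⟩ := IsNoetherian.noetherian (idealOn U V)
  have hloc : ∀ a : S, ∃ n : ℕ, (a.1 * g) ^ n • y = 0 := fun a => by
    refine (localizes_of_isAffineOpen F hV (a.1 * g)).sep y (section_eq_of_gm (M := F) _ _ fun w hw => ?_)
    haveI : Subsingleton (F.presheaf.stalk w) := by
      rw [Scheme.basicOpen_mul] at hw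
      by_contra hns
      have haU : a.1 ∈ idealOn U V := hS.le (Submodule.subset_span a.2)
      exact hg w hw.2 ⟨hns, haU hw.1⟩
    exact Subsingleton.elim _ _
  choose n hn using hloc
  refine ⟨g ^ (Finset.univ.sup n), fun h => hgq (q.2.mem_of_pow_mem _ h), Subtype.ext ?_⟩
  have h0 : g ^ (Finset.univ.sup n) • y = 0 := by
    refine hm _ (Submodule.smul_mem _ _ hy) fun a ha => ?_
    have hle : idealOn U V ≤ Ideal.radical (LinearMap.ker (LinearMap.toSpanSingleton Γ(X, V) Γ(F, V)
        (g ^ (Finset.univ.sup n) • y)) : Ideal Γ(X, V)) := by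
      rw [← hS, Submodule.span_le]
      intro b hb
      refine ⟨Finset.univ.sup n, ?_⟩
      show b ^ (Finset.univ.sup n) • g ^ (Finset.univ.sup n) • y = 0
      rw [← mul_smul, ← mul_pow, ← Nat.sub_add_cancel (Finset.le_sup (Finset.mem_univ (⟨b, hb⟩ : S))),
        pow_add, mul_smul, hn ⟨b, hb⟩, smul_zero]
    exact (hle ha).imp fun k hk => hk
  rw [Submodule.coe_smul, ← hyz, ← map_smul, h0, map_zero]
  rfl

variable [IsLocallyNoetherian X] [HasInjectiveResolutions (ModSite.Mod X.sheaf)]
  [ModSite.HasSheafHom (O := X.sheaf) F] {G : X.Modules}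

/-- Coherence below the depth. -/
theorem isCoh_extZ_of_depth (hF : Coh.IsCoh F) (hG : Coh.IsCoh G) {n i : ℕ} (hi : i < n)
    (h : ∀ x ∈ closure (CohB1.support F ∩ (U : Set X)), x ∉ (U : Set X) →
      (n : ℕ∞) ≤ LocCoh.depth (X.presheaf.stalk x) (G.presheaf.stalk x)) :
    Coh.IsCoh (extZ U F G i) := by
  refine isCoh_extZ_of_finite U hF hG.1 i fun V hV => ?_
  haveI := InjMod.isNoetherianRing_sections hV
  haveI := CohBasics.Closure.finite_sections hF hV
  haveI := CohBasics.Closure.finite_sections hG hV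
  haveI : G.IsQuasicoherent := hG.1
  haveI : Module.Finite Γ(X, V) ((secMod V).obj G) := CohBasics.Closure.finite_sections hG hV
  obtain ⟨m, hm⟩ := exists_pow_support hV U hF
  refine finite_rightDerived_torsF (idealOn U V) Γ(F, V) ((secMod V).obj G) i m fun k _ => ?_
  exact subsingleton_ext_of_depth _ Γ(G, V) hi fun q hq => by
    rw [depth_localization_pt hV q]
    exact h _ (hm k q hq).2 (hm k q hq).1

/-- Vanishing above the dimension. -/
theorem isZero_extZ_of_dim (hF : Coh.IsCoh F) (hG : Coh.IsQCoh G)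
    (hreg : ∀ x : X, IsRegularLocalRing (X.presheaf.stalk x)) {i : ℕ}
    (h : ∀ x ∈ CohB1.support F, x ∉ (U : Set X) → ringKrullDim (X.presheaf.stalk x) < (i : WithBot ℕ∞)) :
    IsZero (extZ U F G i) := by
  refine isZero_extZ_of_subsingleton U hF hG i fun V hV => ?_
  haveI := InjMod.isNoetherianRing_sections hV
  haveI := CohBasics.Closure.finite_sections hF hV
  refine subsingleton_rightDerived_torsF (idealOn U V) Γ(F, V) ((secMod V).obj G) i fun k => ?_
  exact subsingleton_ext_of_dim_lt _ Γ(G, V) fun q hq => by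
    obtain ⟨h1, h2⟩ := mem_support_quotient q (idealOn U V) k hq
    obtain ⟨hr, hd⟩ := regular_pt hV q (hreg _)
    exact ⟨hr, hd ▸ h _ (pt_mem_support hV q h2) ((pt_notMem_iff hV q U).2 h1)⟩

/-- Coherence above the dimension. -/
theorem isCoh_extZ_of_dim (hF : Coh.IsCoh F) (hG : Coh.IsCoh G)
    (hreg : ∀ x : X, IsRegularLocalRing (X.presheaf.stalk x)) {i : ℕ}
    (h : ∀ x ∈ closure (CohB1.support F ∩ (U : Set X)), x ∉ (U : Set X) →
      ringKrullDim (X.presheaf.stalk x) < (i : WithBot ℕ∞)) :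
    Coh.IsCoh (extZ U F G i) := by
  refine isCoh_extZ_of_finite U hF hG.1 i fun V hV => ?_
  haveI := InjMod.isNoetherianRing_sections hV
  haveI := CohBasics.Closure.finite_sections hF hV
  haveI : Module.Finite Γ(X, V) ((secMod V).obj G) := CohBasics.Closure.finite_sections hG hV
  obtain ⟨m, hm⟩ := exists_pow_support hV U hF
  refine finite_rightDerived_torsF (idealOn U V) Γ(F, V) ((secMod V).obj G) i m fun k _ => ?_
  exact subsingleton_ext_of_dim_lt _ Γ(G, V) fun q hq => by
    obtain ⟨hr, hd⟩ := regular_pt hV q (hreg _)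
    exact ⟨hr, hd ▸ h _ (hm k q hq).2 (hm k q hq).1⟩

/-- Coherence in the degrees different from the dimensions. -/
theorem isCoh_extZ_structureModule (hF : Coh.IsCoh F) (hO : Coh.IsCoh (Coh.structureModule X))
    (hreg : ∀ x : X, IsRegularLocalRing (X.presheaf.stalk x)) {n : ℕ}
    (h : ∀ x ∈ closure (CohB1.support F ∩ (U : Set X)), x ∉ (U : Set X) →
      ringKrullDim (X.presheaf.stalk x) ≠ (n : WithBot ℕ∞)) :
    Coh.IsCoh (extZ U F (Coh.structureModule X) n) := by
  refine isCoh_extZ_of_finite U hF hO.1 n fun V hV => ?_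
  haveI := InjMod.isNoetherianRing_sections hV
  haveI := CohBasics.Closure.finite_sections hF hV
  haveI : Module.Finite Γ(X, V) ((secMod V).obj (Coh.structureModule X)) :=
    CohBasics.Closure.finite_sections hO hV
  obtain ⟨m, hm⟩ := exists_pow_support hV U hF
  refine finite_rightDerived_torsF (idealOn U V) Γ(F, V) ((secMod V).obj (Coh.structureModule X)) n m fun k _ => ?_
  exact subsingleton_ext_self_of_height_ne (A := Γ(X, V)) _ fun q hq => by
    obtain ⟨hr, hd⟩ := regular_pt hV q (hreg _)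
    refine ⟨hr, fun e => h _ (hm k q hq).2 (hm k q hq).1 ?_⟩
    rw [← hd, IsLocalization.AtPrime.ringKrullDim_eq_height q.asIdeal, e]
    rfl

end

end Groth.Agent.Lib.ExtZAffine
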