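import Groth.Agent.Lib.InjMod.Torsion
import Groth.Agent.Lib.InjMod.SubFam
import Groth.Agent.Lib.QCoh.Closure
import Groth.Agent.Lib.QCoh.Pushforward
import Groth.Agent.Lib.CohBasics.Closure
import Groth.Prelude.Def_ModSite2
import Groth.Prelude.Def_Coh

/-!
# Sections supported outside an open of a scheme, as the site-theoretic kernel
-/

set_option autoImplicit false
universe u

open CategoryTheory Limits AlgebraicGeometry Opposite TopologicalSpace

namespace Groth.Agent.Lib.ExtZAffine

open Groth.Agent.Lib Groth.Agent.Lib.Modules StalkModule Groth.Agent.Lib.QCoh.Localizing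
open Groth.Agent.Lib.InjMod

noncomputable section

variable {X : Scheme.{u}} (U : X.Opens) {K H : X.Modules}

/-- Sections over opens inside `U` vanish iff the restriction to the site over `U` does. -/
theorem restr_map_eq_zero_iff (φ : K ⟶ H) :
    (ModSite.restr X.sheaf U).map φ = 0 ↔ ∀ W : X.Opens, W ≤ U → ∀ s : Γ(K, W), φ.app W s = 0 := by
  constructor
  · intro h W hW s
    exact congrArg (fun ψ : (ModSite.restr X.sheaf U).obj K ⟶ (ModSite.restr X.sheaf U).obj H =>
      (ψ.val.app (op (Over.mk (homOfLE hW)))).hom s) h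
  · intro h
    apply (SheafOfModules.toSheaf _).map_injective
    ext Y m
    exact h Y.unop.left Y.unop.hom.le m

/-- A morphism lands in the supported sections iff it vanishes on the open. -/
theorem comp_unit_eq_zero_iff (φ : K ⟶ H) :
    φ ≫ (ModSite.restrPushOverAdj X.sheaf U).unit.app H = 0 ↔ (ModSite.restr X.sheaf U).map φ = 0 := by
  let adj := ModSite.restrPushOverAdj X.sheaf U
  have e : φ ≫ adj.unit.app H = adj.unit.app K ≫ (ModSite.pushOver X.sheaf U).map ((ModSite.restr X.sheaf U).map φ) :=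
    adj.unit.naturality φ
  constructor
  · intro h
    have h2 : (adj.homEquiv K _).symm (φ ≫ adj.unit.app H) = (adj.homEquiv K _).symm 0 :=
      congrArg (adj.homEquiv K _).symm h
    rw [Adjunction.homEquiv_naturality_left_symm, Adjunction.homEquiv_counit,
      Adjunction.homEquiv_counit] at h2
    refine Eq.trans ((Category.comp_id _).symm.trans ?_) (h2.trans ?_)
    · exact congrArg (_ ≫ ·) (adj.left_triangle_components H).symm
    · exact (congrArg (· ≫ _) ((ModSite.restr X.sheaf U).map_zero _ _)).trans zero_comp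
  · intro h
    exact e.trans ((congrArg (fun ψ => adj.unit.app K ≫ (ModSite.pushOver X.sheaf U).map ψ) h).trans
      ((congrArg (adj.unit.app K ≫ ·) ((ModSite.pushOver X.sheaf U).map_zero _ _)).trans comp_zero))

/-- The supported sections, as a functor on modules. -/
abbrev sectM (U : X.Opens) : X.Modules ⥤ X.Modules := ModSite.sectOn X.sheaf U

/-- The inclusion of the supported sections. -/
abbrev inc (H : X.Modules) : (sectM U).obj H ⟶ H := (ModSite.sectOnι X.sheaf U).app H

instance mono_inc (H : X.Modules) : Mono (inc U H) :=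
  inferInstanceAs (Mono (kernel.ι ((ModSite.restrPushOverAdj X.sheaf U).unit.app H)))

theorem inc_injective (V : X.Opens) : Function.Injective ((inc U H).app V) :=
  (Stalk.mono_iff_app_injective (inc U H)).1 inferInstance V

theorem restr_map_inc (H : X.Modules) : (ModSite.restr X.sheaf U).map (inc U H) = 0 :=
  (comp_unit_eq_zero_iff U (inc U H)).1
    (kernel.condition (C := ModSite.Mod X.sheaf) ((ModSite.restrPushOverAdj X.sheaf U).unit.app H))

/-- Factor a morphism vanishing on the open through the supported sections. -/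
def liftSect (φ : K ⟶ H) (h : (ModSite.restr X.sheaf U).map φ = 0) : K ⟶ (sectM U).obj H :=
  kernel.lift (C := ModSite.Mod X.sheaf) ((ModSite.restrPushOverAdj X.sheaf U).unit.app H) φ
    ((comp_unit_eq_zero_iff U φ).2 h)

theorem liftSect_inc (φ : K ⟶ H) (h : (ModSite.restr X.sheaf U).map φ = 0) :
    liftSect U φ h ≫ inc U H = φ :=
  kernel.lift_ι (C := ModSite.Mod X.sheaf) _ φ ((comp_unit_eq_zero_iff U φ).2 h)

theorem gm_inc {V : X.Opens} (t : Γ((sectM U).obj H, V)) {z : X} (hz : z ∈ V) (hzU : z ∈ U) :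
    gm H hz ((inc U H).app V t) = 0 := by
  have h := (restr_map_eq_zero_iff U (inc U H)).1 (restr_map_inc U H)
    (V ⊓ U) inf_le_right (res _ inf_le_left t)
  rw [← gm_res (M := H) (inf_le_left : V ⊓ U ≤ V) (⟨hz, hzU⟩ : z ∈ V ⊓ U),
    Groth.Agent.Lib.QCoh.Localizing.res_app, h, gm_zero]

/-- The family of germs of supported sections. -/
def supFam (H : X.Modules) : SubFam H :=
  SubFam.ofGen (fun y => {a | ∃ (W : X.Opens) (hy : y ∈ W) (s : Γ(H, W)), gm H hy s = a ∧
      ∀ z (hz : z ∈ W), z ∈ U → gm H hz s = 0})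
    fun y a ha => by
      obtain ⟨W, hy, s, rfl, hs⟩ := ha
      exact ⟨W, hy, s, rfl, fun z hz => Submodule.subset_span ⟨W, hz, s, rfl, hs⟩⟩

theorem supFam_eq_bot {y : X} (hy : y ∈ U) : (supFam U H).S y = ⊥ :=
  eq_bot_iff.2 (Submodule.span_le.2 fun a ⟨_, hyW, _, ha, hs⟩ => ha ▸ hs y hyW hy)

/-- The supported sections are those with vanishing germs on the open. -/
theorem exists_inc_eq {V : X.Opens} (s : Γ(H, V)) (h : ∀ z (hz : z ∈ V), z ∈ U → gm H hz s = 0) :
    ∃ t, (inc U H).app V t = s := by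
  let T := supFam U H
  have hT : (ModSite.restr X.sheaf U).map T.ι = 0 :=
    ((restr_map_eq_zero_iff U _).2 fun W hW t =>
      section_eq_of_gm _ _ fun z hz => by
        rw [gm_zero, ← stalkMapₗ_gm]
        refine (Submodule.mem_bot (X.presheaf.stalk z)).1 ((supFam_eq_bot U (hW hz)).le ?_)
        exact (show SubFam.range T.ι ≤ T from T.range_ι.le) z ⟨_, rfl⟩)
  refine ⟨(liftSect U T.ι hT).app V (⟨s, fun z hz => Submodule.subset_span ⟨V, hz, s, rfl, h⟩⟩ : T.sec V), ?_⟩
  exact congrArg (fun φ => φ.app V (⟨s, fun z hz => Submodule.subset_span ⟨V, hz, s, rfl, h⟩⟩ : T.sec V))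
    (liftSect_inc U T.ι hT)

theorem comp_unitR_eq_zero (φ : K ⟶ H)
    (h : ∀ (W : X.Opens) (t : Γ(K, W)) (z : X) (hz : z ∈ W), z ∈ U → gm H hz (φ.app W t) = 0) :
    φ ≫ unitR U.ι H = 0 := by
  refine hom_ext_stalkMapₗ fun y => LinearMap.ext fun a => ?_
  obtain ⟨W, hy, t, rfl⟩ := exists_gm K a
  rw [stalkMapₗ_comp, LinearMap.comp_apply, stalkMapₗ_gm, stalkMapₗ_gm, stalkMapₗ_zero,
    LinearMap.zero_apply, unitR_app_eq_zero U.ι (φ.app W t) (fun z hz hzU => h W t z hz (by
      rwa [Scheme.Opens.opensRange_ι] at hzU)), gm_zero]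

theorem restr_map_eq_zero_of_comp_unitR (φ : K ⟶ H) (h : φ ≫ unitR U.ι H = 0) :
    (ModSite.restr X.sheaf U).map φ = 0 :=
  (restr_map_eq_zero_iff U φ).2 fun W hW t => section_eq_of_gm (M := H) _ _ fun z hz => by
    rw [gm_zero]
    refine gm_eq_zero_of_unitR U.ι (φ.app W t) ?_ hz (by rw [Scheme.Opens.opensRange_ι]; exact hW hz)
    have := congrArg (fun ψ : K ⟶ _ => ψ.app W t) h
    exact this

/-- Supported sections of quasi-coherent modules are quasi-coherent. -/
theorem isQCoh_sectOn [IsLocallyNoetherian X] (H : X.Modules) (hH : Coh.IsQCoh H) :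
    Coh.IsQCoh ((sectM U).obj H) := by
  haveI : H.IsQuasicoherent := hH
  haveI : (((Scheme.Modules.pushforward U.ι).obj ((Scheme.Modules.restrictFunctor U.ι).obj H))).IsQuasicoherent :=
    haveI : ((Scheme.Modules.restrictFunctor U.ι).obj H).IsQuasicoherent :=
      inferInstanceAs (H.restrict U.ι).IsQuasicoherent
    QCoh.Pushforward.isQCoh_pushforward U.ι
  haveI : (kernel (unitR U.ι H)).IsQuasicoherent := QCoh.Closure.isQCoh_kernel (unitR U.ι H)
  have h1 : inc U H ≫ unitR U.ι H = 0 :=
    comp_unitR_eq_zero U (inc U H) fun W t z hz hzU => gm_inc U t hz hzU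
  have h2 : (ModSite.restr X.sheaf U).map (kernel.ι (unitR U.ι H)) = 0 :=
    restr_map_eq_zero_of_comp_unitR U (kernel.ι (unitR U.ι H)) (kernel.condition (unitR U.ι H))
  exact CohBasics.Closure.isQCoh_of_iso
    (show kernel (unitR U.ι H) ≅ (sectM U).obj H from
      { hom := liftSect U (kernel.ι (unitR U.ι H)) h2
        inv := kernel.lift _ (inc U H) h1
        hom_inv_id := (cancel_mono (kernel.ι (unitR U.ι H))).1 (by
          rw [Category.assoc, kernel.lift_ι, Category.id_comp, liftSect_inc])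
        inv_hom_id := (cancel_mono (inc U H)).1 (by
          rw [Category.assoc, Category.id_comp, liftSect_inc, kernel.lift_ι]) })

end

end Groth.Agent.Lib.ExtZAffine
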